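import Groth.Prelude.Def_Bivar2
import Groth.Agent.H3Cyc.ChowCompat
import Groth.Agent.H3Cyc.GysinTot
import Groth.Agent.H3Cyc.BCPush
import Groth.Agent.H3Cyc.OpenSupp
import Mathlib

/-!
# Test schemes of operational classes
-/

set_option autoImplicit false
set_option linter.style.haveILetI false
set_option linter.unusedSectionVars false
set_option backward.isDefEq.respectTransparency.types false
universe u

open CategoryTheory CategoryTheory.Limits AlgebraicGeometry

namespace Groth.Agent.H3Bivar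

open Groth.Agent.H3Cyc

variable {X : Scheme.{u}} {δX : X → ℤ}

/-- A test scheme is a setup. -/
theorem isSetup_test (hX : Cyc.IsSetup X δX) (s : Bivar.OSq X δX) : Cyc.IsSetup s.Y s.δ :=
  haveI := s.lft
  isSetup_of_locallyOfFiniteType s.g hX s.compat

/-- Morphisms of test schemes are locally of finite type. -/
theorem lft_hom {s t : Bivar.OSq X δX} {h : t.Y ⟶ s.Y} (w : h ≫ s.g = t.g) : LocallyOfFiniteType h :=
  haveI : LocallyOfFiniteType (h ≫ s.g) := by rw [w]; exact t.lft
  locallyOfFiniteType_of_comp h s.g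

/-- Morphisms of test schemes are compatible with the dimension functions. -/
theorem deltaCompat_hom {s t : Bivar.OSq X δX} {h : t.Y ⟶ s.Y} (w : h ≫ s.g = t.g) :
    Cyc.DeltaCompat h t.δ s.δ :=
  BCPush.deltaCompat_cancel h s.g s.compat (by rw [w]; exact t.compat)

/-- The dimension function of a test scheme immersed in another one. -/
theorem delta_immersion {s t : Bivar.OSq X δX} {i : t.Y ⟶ s.Y} [IsPreimmersion i] (w : i ≫ s.g = t.g) :
    t.δ = fun d => s.δ (i d) := by
  funext d
  obtain ⟨n, hn, e⟩ := deltaCompat_hom w d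
  obtain ⟨m, hm, e'⟩ := Reduction.deltaCompat_immersion i s.δ d
  rw [e, show n = m from Nat.cast_injective (R := Cardinal) (hn.symm.trans hm)]
  exact e'.symm

/-- It suffices to consider immersed test schemes with the restricted dimension function. -/
theorem immersion_induction {s : Bivar.OSq X δX} (P : ∀ (t : Bivar.OSq X δX), (t.Y ⟶ s.Y) → Prop)
    (H : ∀ (Y : Scheme.{u}) (i : Y ⟶ s.Y) [IsPreimmersion i] (hl : LocallyOfFiniteType (i ≫ s.g))
      (hc : Cyc.DeltaCompat (i ≫ s.g) (fun d => s.δ (i d)) δX),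
      P ⟨Y, i ≫ s.g, hl, fun d => s.δ (i d), hc⟩ i) :
    ∀ (t : Bivar.OSq X δX) (i : t.Y ⟶ s.Y) [IsPreimmersion i], i ≫ s.g = t.g → P t i := by
  rintro ⟨Y, g, hl, δ, hc⟩
  show ∀ (i : Y ⟶ s.Y) [IsPreimmersion i], i ≫ s.g = g → P ⟨Y, g, hl, δ, hc⟩ i
  intro i _ w
  obtain rfl : δ = fun d => s.δ (i d) := delta_immersion (t := ⟨Y, g, hl, δ, hc⟩) (i := i) w
  subst w
  exact H Y i hl hc

/-- Pulled back modules along morphisms of test schemes. -/
noncomputable def pullIso (L : X.Modules) {Y Y' : Scheme.{u}} {g : Y ⟶ X} {g' : Y' ⟶ X} (h : Y' ⟶ Y) (w : h ≫ g = g') :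
    (Scheme.Modules.pullback h).obj ((Scheme.Modules.pullback g).obj L) ≅ (Scheme.Modules.pullback g').obj L :=
  (Scheme.Modules.pullbackComp h g).app L ≪≫ (Scheme.Modules.pullbackCongr w).app L

end Groth.Agent.H3Bivar
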