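import Groth.Agent.H3Bivar.GyOps
import Groth.Agent.H3Cyc.SplitChern
import Groth.Agent.H3Cyc.GysinTot
import Groth.Agent.H26Gr.QuotBC
import Mathlib

/-!
# Chern classes of a locally free module as operations on all test schemes
-/

set_option autoImplicit false
set_option maxHeartbeats 1000000
set_option linter.style.haveILetI false
set_option linter.unusedSectionVars false
set_option backward.isDefEq.respectTransparency.types false
universe u

open CategoryTheory CategoryTheory.Limits AlgebraicGeometry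
open Groth.Agent.H3Cyc Groth.Agent.H3Cyc.PBundle Groth.Agent.H3Cyc.Tot

noncomputable section

namespace Groth.Agent.H3Bivar.Chern

variable {X : Scheme.{u}} {δ : X → ℤ}

/-- The surjection of a bundle pulled back. -/
theorem exists_epi {P : Scheme.{u}} {p : P ⟶ X} {O1 : P.Modules} {E : X.Modules}
    (q : (Scheme.Modules.pullback p).obj E ⟶ O1) [Epi q] {Y P' : Scheme.{u}} {f : Y ⟶ X} {p' : P' ⟶ Y}
    {g : P' ⟶ P} (hsq : IsPullback g p' p f) {F : Y.Modules} (e : F ≅ (Scheme.Modules.pullback f).obj E) :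
    ∃ q' : (Scheme.Modules.pullback p').obj F ⟶ (Scheme.Modules.pullback g).obj O1, Epi q' := by
  haveI : Epi ((Scheme.Modules.pullback g).map q) := by
    haveI := (Scheme.Modules.pullbackPushforwardAdjunction g).isLeftAdjoint
    infer_instance
  exact ⟨((Scheme.Modules.pullback p').mapIso e ≪≫ (Scheme.Modules.pullbackComp p' f).app E ≪≫
    (Scheme.Modules.pullbackCongr hsq.w.symm).app E ≪≫ ((Scheme.Modules.pullbackComp g p).app E).symm).hom ≫
      (Scheme.Modules.pullback g).map q, epi_comp _ _⟩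

section indep

variable {n : ℕ} {P : Scheme.{u}} {p : P ⟶ X} {O1 : P.Modules} (hB : Bundle n p O1) {δP : P → ℤ}

/-- After splitting the operators are the elementary symmetric functions. -/
theorem pull_cT (hX : Cyc.IsSetup X δ) {E : X.Modules} (q : (Scheme.Modules.pullback p).obj E ⟶ O1) [Epi q]
    (hP : Cyc.IsSetup P δP) (hδ : Cyc.DeltaCompat p δP δ) {Y : Scheme.{u}} (π : Y ⟶ X) [Flat π]
    [LocallyOfFiniteType π] {δY : Y → ℤ} (hY : Cyc.IsSetup Y δY) (hπ : Cyc.DeltaCompat π δY δ) {d : ℕ}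
    (hrel : Cyc.HasRelDim π d) (hd : FlatRat.MaxDim π δY δ (d : ℤ)) {ls : List Y.Modules}
    (hF : Filt.Filt ((Scheme.Modules.pullback π).obj E) ls) (hlen : ls.length = n + 1) (j : ℕ) (f : T X δ) :
    Tot.Pull π hY hX hd (ChernTot.cT hB hX hP hδ j f) =
      ESym.es (ls.map (Filt.cc hY)) j (Tot.Pull π hY hX hd f) := by
  haveI := hB.isProper
  have hsq : IsPullback (pullback.fst p π) (pullback.snd p π) p π := IsPullback.of_hasPullback _ _
  haveI : Flat (pullback.fst p π) := MorphismProperty.pullback_fst _ _ inferInstance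
  haveI : IsProper (pullback.snd p π) := MorphismProperty.pullback_snd _ _ inferInstance
  haveI : LocallyOfFiniteType (pullback.fst p π) := MorphismProperty.pullback_fst _ _ inferInstance
  obtain ⟨δP', hp'⟩ := SpFun.exists_deltaCompat (pullback.snd p π) δY
  have hP' := isSetup_of_locallyOfFiniteType _ hY hp'
  have hg : Cyc.DeltaCompat (pullback.fst p π) δP' δP := BCPush.deltaCompat_cancel _ p hδ (by
    rw [hsq.w]; exact BCPush.deltaCompat_comp _ π hp' hπ)
  have hc' : FlatRat.MaxDim (pullback.fst p π) δP' δP (d : ℤ) :=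
    FlatRat.maxDim_of_hasRelDim _ (hasRelDim_of_isPullback hsq.flip hrel) hg
  obtain ⟨q', hq'⟩ := exists_epi q hsq (Iso.refl _)
  haveI := hq'
  rw [← ChernTot.cT_eq_es (hB.baseChange hsq) hY hP' hp' (q := q') hF hlen j,
    SplitChern.cT_pull hB hX hP hδ π hY hd hsq hP' hp' hc']

/-- The operators only depend on the module. -/
theorem cT_indep (hX : Cyc.IsSetup X δ) {E : X.Modules} (hE : FlatMod.IsFinLocFreeOfRank (n + 1) E)
    (q : (Scheme.Modules.pullback p).obj E ⟶ O1) [Epi q] (hP : Cyc.IsSetup P δP) (hδ : Cyc.DeltaCompat p δP δ)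
    {P' : Scheme.{u}} {p' : P' ⟶ X} {O1' : P'.Modules} (hB' : Bundle n p' O1')
    (q' : (Scheme.Modules.pullback p').obj E ⟶ O1') [Epi q'] {δP' : P' → ℤ} (hP' : Cyc.IsSetup P' δP')
    (hδ' : Cyc.DeltaCompat p' δP' δ) (j : ℕ) :
    ChernTot.cT hB hX hP hδ j = ChernTot.cT hB' hX hP' hδ' j := by
  obtain ⟨Y, π, δY, hY, hπ, hpr, hfl, d, hrel, hd, hinj, hs⟩ :=
    SplitChern.exists_setting hX 1 (fun _ => E) (fun _ => n + 1) fun _ => hE
  obtain ⟨ls, hls, hlen⟩ := hs 0
  exact AddMonoidHom.ext fun f => hinj ((pull_cT hB hX q hP hδ π hY hπ hrel hd hls.toFilt hlen j f).trans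
    (pull_cT hB' hX q' hP' hδ' π hY hπ hrel hd hls.toFilt hlen j f).symm)

end indep

/-- A bundle with all its data. -/
theorem exists_data (hX : Cyc.IsSetup X δ) {n : ℕ} {E : X.Modules} (hE : FlatMod.IsFinLocFreeOfRank (n + 1) E) :
    ∃ (P : Scheme.{u}) (p : P ⟶ X) (O1 : P.Modules) (q : (Scheme.Modules.pullback p).obj E ⟶ O1)
      (_ : Bundle n p O1) (δP : P → ℤ) (_ : Cyc.IsSetup P δP) (_ : Cyc.DeltaCompat p δP δ),
      KRR.IsProjBundle p E O1 q := by
  have hq := H8Props.FinLocFree.isQCoh_of_isFinLocFree E (H22Alg.KPullLam.finLocFree_of_rank hE)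
  obtain ⟨P, p, O1, q, hP⟩ := H22Alg.PB.exists_isProjBundle E hq
  have hB := of_isProjBundle hE hP
  haveI := hB.isProper
  obtain ⟨δP, hδ⟩ := SpFun.exists_deltaCompat p δ
  exact ⟨P, p, O1, q, hB, δP, isSetup_of_locallyOfFiniteType p hX hδ, hδ, hP⟩

/-- The Chern class operators of a module. -/
theorem exists_ops (hX : Cyc.IsSetup X δ) {n : ℕ} {E : X.Modules} (hE : FlatMod.IsFinLocFreeOfRank (n + 1) E) :
    ∃ C : ℕ → AddMonoid.End (T X δ), ∀ (P : Scheme.{u}) (p : P ⟶ X) (O1 : P.Modules)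
      (q : (Scheme.Modules.pullback p).obj E ⟶ O1) [Epi q] (hB : Bundle n p O1) (δP : P → ℤ)
      (hP : Cyc.IsSetup P δP) (hδ : Cyc.DeltaCompat p δP δ) (j : ℕ), C j = ChernTot.cT hB hX hP hδ j := by
  obtain ⟨P₀, p₀, O₀, q₀, hB₀, δ₀, hP₀, hδ₀, h₀⟩ := exists_data hX hE
  haveI := h₀.epi
  exact ⟨fun j => ChernTot.cT hB₀ hX hP₀ hδ₀ j, fun P p O1 q _ hB δP hP hδ j =>
    cT_indep hB₀ hX hE q₀ hP₀ hδ₀ hB q hP hδ j⟩

/-- The Chern class operators of a module. -/
def ops (hX : Cyc.IsSetup X δ) {n : ℕ} {E : X.Modules} (hE : FlatMod.IsFinLocFreeOfRank (n + 1) E) :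
    ℕ → AddMonoid.End (T X δ) :=
  (exists_ops hX hE).choose

theorem ops_eq (hX : Cyc.IsSetup X δ) {n : ℕ} {E : X.Modules} (hE : FlatMod.IsFinLocFreeOfRank (n + 1) E)
    {P : Scheme.{u}} {p : P ⟶ X} {O1 : P.Modules} (q : (Scheme.Modules.pullback p).obj E ⟶ O1) [Epi q]
    (hB : Bundle n p O1) {δP : P → ℤ} (hP : Cyc.IsSetup P δP) (hδ : Cyc.DeltaCompat p δP δ) (j : ℕ) :
    ops hX hE j = ChernTot.cT hB hX hP hδ j :=
  (exists_ops hX hE).choose_spec P p O1 q hB δP hP hδ j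

theorem ops_congr (hX : Cyc.IsSetup X δ) {n : ℕ} {E : X.Modules} (hE : FlatMod.IsFinLocFreeOfRank (n + 1) E)
    (j : ℕ) {f g : T X δ} {l : ℤ} (e : f (l + j) = g (l + j)) : ops hX hE j f l = ops hX hE j g l := by
  obtain ⟨P₀, p₀, O₀, q₀, hB₀, δ₀, hP₀, hδ₀, h₀⟩ := exists_data hX hE
  haveI := h₀.epi
  rw [ops_eq hX hE q₀ hB₀ hP₀ hδ₀ j]
  exact ChernTot.cT_congr hB₀ hX hP₀ hδ₀ j e

variable {Y : Scheme.{u}} {δY : Y → ℤ} {n : ℕ} {E : X.Modules} {F : Y.Modules}

theorem ops_push (hX : Cyc.IsSetup X δ) (hY : Cyc.IsSetup Y δY) (hE : FlatMod.IsFinLocFreeOfRank (n + 1) E)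
    (hF : FlatMod.IsFinLocFreeOfRank (n + 1) F) (f : Y ⟶ X) [IsProper f] (hf : Cyc.DeltaCompat f δY δ)
    (e : F ≅ (Scheme.Modules.pullback f).obj E) (j : ℕ) (z : T Y δY) :
    ops hX hE j (Tot.Push f hY hX hf z) = Tot.Push f hY hX hf (ops hY hF j z) := by
  obtain ⟨P, p, O1, q, hB, δP, hP, hδ, hpb⟩ := exists_data hX hE
  haveI := hpb.epi
  haveI := hB.isProper
  have hsq : IsPullback (pullback.fst p f) (pullback.snd p f) p f := IsPullback.of_hasPullback _ _
  obtain ⟨q', hq'⟩ := exists_epi q hsq e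
  haveI := hq'
  haveI : IsProper (pullback.snd p f) := MorphismProperty.pullback_snd _ _ inferInstance
  obtain ⟨δP', hp'⟩ := SpFun.exists_deltaCompat (pullback.snd p f) δY
  have hP' := isSetup_of_locallyOfFiniteType _ hY hp'
  rw [ops_eq hX hE q hB hP hδ, ops_eq hY hF q' (hB.baseChange hsq) hP' hp']
  match j with
  | 0 => rfl
  | j + 1 =>
    by_cases hj : j < n + 1
    · rw [ChernTot.cT_succ _ hY hP' hp' hj, ChernTot.cT_succ hB hX hP hδ hj]
      show ((-1 : ℤ) ^ j) • ChernTot.opEnd _ _ _ _ _ _ = Tot.Push f hY hX hf (((-1 : ℤ) ^ j) • _)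
      rw [map_zsmul]
      congr 1
      funext l
      exact Chern.op_push hB hY hX hP hδ f hf hsq hP' hp' ⟨n - j, by omega⟩ (l := l)
        (j := l + ((n + 1 : ℕ) - ((⟨n - j, by omega⟩ : Fin (n + 1)) : ℕ))) (by ring) (z _)
    · rw [ChernTot.cT_eq_zero _ hY hP' hp' (by omega), ChernTot.cT_eq_zero hB hX hP hδ (by omega)]
      show 0 = Tot.Push f hY hX hf 0
      rw [map_zero]

theorem ops_pull (hX : Cyc.IsSetup X δ) (hY : Cyc.IsSetup Y δY) (hE : FlatMod.IsFinLocFreeOfRank (n + 1) E)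
    (hF : FlatMod.IsFinLocFreeOfRank (n + 1) F) (f : Y ⟶ X) [Flat f] [LocallyOfFiniteType f]
    (hf : Cyc.DeltaCompat f δY δ) {r : ℕ} (hr : Cyc.HasRelDim f r) (hc : FlatRat.MaxDim f δY δ (r : ℤ))
    (e : F ≅ (Scheme.Modules.pullback f).obj E) (j : ℕ) (z : T X δ) :
    ops hY hF j (Tot.Pull f hY hX hc z) = Tot.Pull f hY hX hc (ops hX hE j z) := by
  obtain ⟨P, p, O1, q, hB, δP, hP, hδ, hpb⟩ := exists_data hX hE
  haveI := hpb.epi
  haveI := hB.isProper
  have hsq : IsPullback (pullback.fst p f) (pullback.snd p f) p f := IsPullback.of_hasPullback _ _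
  obtain ⟨q', hq'⟩ := exists_epi q hsq e
  haveI := hq'
  haveI : Flat (pullback.fst p f) := MorphismProperty.pullback_fst _ _ inferInstance
  haveI : LocallyOfFiniteType (pullback.fst p f) := MorphismProperty.pullback_fst _ _ inferInstance
  haveI : IsProper (pullback.snd p f) := MorphismProperty.pullback_snd _ _ inferInstance
  obtain ⟨δP', hp'⟩ := SpFun.exists_deltaCompat (pullback.snd p f) δY
  have hP' := isSetup_of_locallyOfFiniteType _ hY hp'
  have hg : Cyc.DeltaCompat (pullback.fst p f) δP' δP := BCPush.deltaCompat_cancel _ p hδ (by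
    rw [hsq.w]; exact BCPush.deltaCompat_comp _ f hp' hf)
  rw [ops_eq hX hE q hB hP hδ, ops_eq hY hF q' (hB.baseChange hsq) hP' hp']
  exact SplitChern.cT_pull hB hX hP hδ f hY hc hsq hP' hp'
    (FlatRat.maxDim_of_hasRelDim _ (hasRelDim_of_isPullback hsq.flip hr) hg) j z

theorem ops_gys (hX : Cyc.IsSetup X δ) {L : X.Modules} (hL : PicF.IsInvertible L)
    {s : L.presheaf.obj (Opposite.op ⊤)} {i : Y ⟶ X} [IsClosedImmersion i] (hD : Cyc.IsZeroSchemeOf i L s)
    (hE : FlatMod.IsFinLocFreeOfRank (n + 1) E)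
    (hF : FlatMod.IsFinLocFreeOfRank (n + 1) F) (e : F ≅ (Scheme.Modules.pullback i).obj E) (j : ℕ) (z : T X δ) :
    ops (GysinTot.isSetupD hX (i := i)) hF j (GysinTot.Gys hX hL hD z) = GysinTot.Gys hX hL hD (ops hX hE j z) := by
  haveI := hX.1
  have hDs := GysinTot.isSetupD hX (i := i)
  haveI := hDs.1
  obtain ⟨V, π, d, hT, -, hs⟩ := Tower.exists_split X 1 (fun _ => E) (fun _ => n + 1) fun _ => hE
  obtain ⟨ls, hls, hlen⟩ := hs 0
  haveI := hT.isProper
  haveI := hT.flat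
  obtain ⟨δV, hδV⟩ := SpFun.exists_deltaCompat π δ
  have hV := isSetup_of_locallyOfFiniteType π hX hδV
  have hd := hT.maxDim hδV
  have hL' := H11Ample.isInvertible_pullback π hL
  have hsqD : IsPullback (pullback.fst π i) (pullback.snd π i) π i := IsPullback.of_hasPullback π i
  have hTD := hT.baseChange hsqD
  haveI := hTD.isProper
  haveI := hTD.flat
  have hVD := GysinTot.isSetupD hV (i := pullback.fst π i)
  have hπD : Cyc.DeltaCompat (pullback.snd π i) (fun z => δV (pullback.fst π i z)) (fun d => δ (i d)) :=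
    BCPush.deltaCompat_cancel _ i (Reduction.deltaCompat_immersion i δ) (by
      rw [← hsqD.w]
      exact BCPush.deltaCompat_comp _ π (Reduction.deltaCompat_immersion (pullback.fst π i) δV) hδV)
  have hdD := hTD.maxDim hπD
  have hFD : Filt.Filt ((Scheme.Modules.pullback (pullback.snd π i)).obj F)
      (ls.map (Scheme.Modules.pullback (pullback.fst π i)).obj) :=
    (hls.toFilt.pullback (pullback.fst π i)).of_iso
      ((Scheme.Modules.pullbackComp (pullback.fst π i) π).app E ≪≫ (Scheme.Modules.pullbackCongr hsqD.w).app E ≪≫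
        ((Scheme.Modules.pullbackComp (pullback.snd π i) i).app E).symm ≪≫
        ((Scheme.Modules.pullback (pullback.snd π i)).mapIso e).symm)
  obtain ⟨P, p, O1, q, hB, δP, hP, hδ, hpb⟩ := exists_data hX hE
  haveI := hpb.epi
  obtain ⟨P', p', O1', q', hB', δP', hP', hδ', hpb'⟩ := exists_data hDs hF
  haveI := hpb'.epi
  refine (hTD.Pull_injective hDs hVD hπD hdD rfl) ?_
  rw [ops_eq hX hE q hB hP hδ, ops_eq hDs hF q' hB' hP' hδ',
    pull_cT hB' hDs q' hP' hδ' _ hVD hπD hTD.hasRelDim hdD hFD (by simp [hlen]),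
    GysinTot.Gys_Pull hX hL hD π hT.hasRelDim hδV hV hd hL' hdD,
    GysinTot.Gys_Pull hX hL hD π hT.hasRelDim hδV hV hd hL' hdD,
    pull_cT hB hX q hP hδ π hV hδV hT.hasRelDim hd hls.toFilt hlen,
    GysinTot.Gys_es hV hL' (GysinTot.isZeroScheme_pullSec hL hD π) ls hls.toFilt.invertible]

end Groth.Agent.H3Bivar.Chern
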