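import Groth.Agent.H3Bivar.Square
import Groth.Agent.H22Alg.FiniteDegree
import Groth.Agent.H3Cyc.FlatComp
import Mathlib

/-!
# Chow groups of clopen decompositions
-/

set_option autoImplicit false
set_option linter.style.haveILetI false
set_option linter.unusedSectionVars false
set_option backward.isDefEq.respectTransparency.types false
universe u

open CategoryTheory CategoryTheory.Limits AlgebraicGeometry

noncomputable section

namespace Groth.Agent.H3Bivar

open Groth.Agent.H3Cyc

variable {X : Scheme.{u}} {δ : X → ℤ} {J : Type u} {U : J → Scheme.{u}} (g : ∀ j, U j ⟶ X)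
  [hop : ∀ j, IsOpenImmersion (g j)]
  (hdisj : ∀ j j', j ≠ j' → Disjoint (Set.range (g j)) (Set.range (g j')))
  (hcov : ∀ x : X, ∃ j, x ∈ Set.range (g j))

include hdisj hcov in
theorem isClosed_range_piece (j : J) : IsClosed (Set.range (g j)) := by
  have : (Set.range (g j))ᶜ = ⋃ (i : J) (_ : i ≠ j), Set.range (g i) := by
    ext x
    simp only [Set.mem_compl_iff, Set.mem_iUnion, exists_prop]
    refine ⟨fun hx => ?_, fun ⟨i, hi, hx⟩ hx' => Set.disjoint_left.mp (hdisj i j hi) hx hx'⟩
    obtain ⟨i, hi⟩ := hcov x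
    exact ⟨i, fun e => hx (e ▸ hi), hi⟩
  rw [← isOpen_compl_iff, this]
  exact isOpen_biUnion fun i _ => (g i).isOpenEmbedding.isOpen_range

include hdisj hcov in
theorem isClosedImmersion_piece (j : J) : IsClosedImmersion (g j) :=
  .of_isPreimmersion _ (isClosed_range_piece g hdisj hcov j)

variable (hX : Cyc.IsSetup X δ) {δU : ∀ j, U j → ℤ} (hU : ∀ j, Cyc.IsSetup (U j) (δU j))
  (he : ∀ j w, δU j w = δ (g j w))

include he in
theorem maxDim_piece (j : J) : FlatRat.MaxDim (g j) (δU j) δ 0 := fun w _ => by rw [he, add_zero]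

/-- Restriction of classes to a piece. -/
def resPiece (j : J) (k : ℤ) : ChowOps.CH X δ k →+ ChowOps.CH (U j) (δU j) k :=
  Chow.pull (g j) (hU j) hX (maxDim_piece g he j) (add_zero k).symm

theorem resPiece_cl (j : J) (k : ℤ) (α : AlgebraicCycle X ℤ) (hα : α ∈ Cyc.Zk X δ k) (a : AlgebraicCycle (U j) ℤ)
    (ha : a ∈ Cyc.Zk (U j) (δU j) k) (h : ∀ w, a w = α (g j w)) :
    resPiece g hX hU he j k (ChowOps.cl α hα) = ChowOps.cl a ha := by
  refine Chow.pull_cl (g j) _ _ _ _ α hα a ha (funext fun w => ?_)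
  rw [h, show δU j = fun w => δ (g j w) from funext (he j), OpenSupp.pullFun_openImmersion]

include hdisj hcov in
/-- Classes are determined by their restrictions to the pieces. -/
theorem piece_ext {k : ℤ} (x y : ChowOps.CH X δ k)
    (h : ∀ j, resPiece g hX hU he j k x = resPiece g hX hU he j k y) : x = y := by
  classical
  rw [← sub_eq_zero]
  have h0 : ∀ j, resPiece g hX hU he j k (x - y) = 0 := fun j => by rw [map_sub, h, sub_self]
  generalize x - y = z at h0
  obtain ⟨α, hα, rfl⟩ := Chow.exists_cl z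
  refine (Chow.cl_eq_zero_iff hα).mpr ?_
  haveI := hX.1
  have hcl := fun j => isClosedImmersion_piece g hdisj hcov j
  have hF : ∀ j, RatFam δ k (Set.range (g j) ∩ Set.univ) ((Set.range (g j)).indicator α) := fun j => by
    haveI := hcl j
    haveI := (hU j).1
    obtain ⟨a, ha, ham⟩ := C1Api.exists_pullFun_cycle (g j) (hU j) hX (maxDim_piece g he j) k α hα
    rw [add_zero] at ham
    have haw : ∀ w, a w = α (g j w) := fun w => by
      rw [ha, show δU j = fun w => δ (g j w) from funext (he j), OpenSupp.pullFun_openImmersion]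
    have h1 := h0 j
    rw [resPiece_cl g hX hU he j k α hα a ham haw, Chow.cl_eq_zero_iff] at h1
    rw [show δU j = fun w => δ (g j w) from funext (he j)] at h1
    refine RatFam.mono (by simp) (RatFam.push (g j) (RatFam.of_ratEquivZero h1)
      (G := (Set.range (g j)).indicator α) (fun w => ?_) fun v hv => Set.indicator_of_notMem hv _)
    rw [Set.indicator_of_mem (Set.mem_range_self w), haw]
  refine RatFam.ratEquivZero (S := Set.univ) (G := ⇑α) ?_ fun _ => rfl
  refine RatFam.family (fun j => Set.range (g j)) (isClosed_range_piece g hdisj hcov) (fun v => ?_)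
    (fun j => (Set.range (g j)).indicator α) hF fun v => ?_
  · obtain ⟨i, hi⟩ := hcov v
    refine ⟨Set.range (g i), (g i).isOpenEmbedding.isOpen_range, hi, (Set.finite_singleton i).subset fun j hj => ?_⟩
    by_contra hne
    obtain ⟨w, hw, hw'⟩ := hj
    exact Set.disjoint_left.mp (hdisj j i hne) hw hw'
  · obtain ⟨i, hi⟩ := hcov v
    rw [finsum_eq_single _ i fun j hj => Set.indicator_of_notMem
      (fun hv => Set.disjoint_left.mp (hdisj j i hj) hv hi) _, Set.indicator_of_mem hi]

include hdisj hcov in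
/-- Classes on the pieces glue. -/
theorem piece_glue {k : ℤ} (z : ∀ j, ChowOps.CH (U j) (δU j) k) :
    ∃ x : ChowOps.CH X δ k, ∀ j, resPiece g hX hU he j k x = z j := by
  classical
  choose a ha hz using fun j => Chow.exists_cl (z j)
  choose idx w hw using fun x : X => (hcov x : ∃ j, ∃ w, g j w = x)
  have huniq : ∀ j (v : U j), a (idx (g j v)) (w (g j v)) = a j v := fun j v => by
    have key : ∀ i (u : U i), g i u = g j v → a i u = a j v := fun i u e => by
      obtain rfl : i = j := by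
        by_contra hne
        exact Set.disjoint_left.mp (hdisj i j hne) ⟨u, e⟩ (Set.mem_range_self v)
      rw [(g i).isEmbedding.injective e]
    exact key _ _ (hw (g j v))
  have hlf : ∀ x : X, ∃ t ∈ nhds x, (t ∩ Function.support fun y => a (idx y) (w y)).Finite := fun x => by
    obtain ⟨j, v, rfl⟩ := hcov x
    obtain ⟨t, ht, hfin⟩ := (a j).supportLocallyFiniteWithinDomain v trivial
    refine ⟨g j '' t, (g j).isOpenEmbedding.isOpenMap.image_mem_nhds ht, (hfin.image (g j)).subset ?_⟩
    rintro _ ⟨⟨u, hu, rfl⟩, hne⟩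
    refine ⟨u, ⟨hu, ?_⟩, rfl⟩
    show a j u ≠ 0
    rw [← huniq]
    exact hne
  let α : AlgebraicCycle X ℤ := ⟨fun y => a (idx y) (w y), by simp, fun x _ => hlf x⟩
  have hα : α ∈ Cyc.Zk X δ k := fun x hx => ha (idx x) (w x) (by rw [he, hw]; exact hx)
  exact ⟨ChowOps.cl α hα, fun j => by
    rw [resPiece_cl g hX hU he j k α hα (a j) (ha j) fun v => (huniq j v).symm, hz]⟩

section comm

variable {A B C D : Scheme.{u}} {δA : A → ℤ} {δB : B → ℤ} {δC : C → ℤ} {δD : D → ℤ}
  (hA : Cyc.IsSetup A δA) (hB : Cyc.IsSetup B δB) (hC : Cyc.IsSetup C δC) (hD : Cyc.IsSetup D δD)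

/-- Pullbacks along the two ways around a commutative square agree. -/
theorem pull_comm (a : A ⟶ B) (b : B ⟶ D) (c : A ⟶ C) (d : C ⟶ D) [Flat a] [Flat b] [Flat c] [Flat d]
    (e : a ≫ b = c ≫ d) {p q p' q' : ℤ} (ha : FlatRat.MaxDim a δA δB p) (hb : FlatRat.MaxDim b δB δD q)
    (hc : FlatRat.MaxDim c δA δC p') (hd : FlatRat.MaxDim d δC δD q') (hpq : p + q = p' + q') {k l l' m : ℤ}
    (h₁ : l = k + q) (h₂ : m = l + p) (h₁' : l' = k + q') (h₂' : m = l' + p') (x : ChowOps.CH D δD k) :
    Chow.pull a hA hB ha h₂ (Chow.pull b hB hD hb h₁ x) = Chow.pull c hA hC hc h₂' (Chow.pull d hC hD hd h₁' x) := by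
  have c₁ : FlatRat.MaxDim (a ≫ b) δA δD (p + q) := by rw [add_comm]; exact FlatRat.maxDim_comp a b ha hb
  have c₂ : FlatRat.MaxDim (c ≫ d) δA δD (p' + q') := by rw [add_comm]; exact FlatRat.maxDim_comp c d hc hd
  rw [Chow.pull_pull a hA hB ha b hD hb c₁ _ _ (show m = k + (p + q) by omega),
    Chow.pull_pull c hA hC hc d hD hd c₂ _ _ (show m = k + (p' + q') by omega)]
  have key : ∀ (g : A ⟶ D) [Flat g] (r : ℤ) (hg : FlatRat.MaxDim g δA δD r) (g' : A ⟶ D) [Flat g'] (r' : ℤ)
      (hg' : FlatRat.MaxDim g' δA δD r'), g = g' → r = r' → ∀ (e : m = k + r) (e' : m = k + r'),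
      Chow.pull g hA hD hg e x = Chow.pull g' hA hD hg' e' x := by
    rintro g _ r hg g' _ r' hg' rfl rfl e e'
    rfl
  exact key _ _ c₁ _ _ c₂ e hpq _ _

/-- Classes on the empty scheme vanish. -/
theorem ch_subsingleton [IsEmpty A] (k : ℤ) : Subsingleton (ChowOps.CH A δA k) := by
  refine ⟨fun x y => ?_⟩
  obtain ⟨α, hα, rfl⟩ := Chow.exists_cl x
  obtain ⟨β, hβ, rfl⟩ := Chow.exists_cl y
  exact Chow.cl_congr _ _ (funext fun a => isEmptyElim a)

end comm

/-- The projection of a cartesian square hits every point lying over the other leg. -/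
theorem mem_range_of_isPullback {P A B S : Scheme.{u}} {a : P ⟶ A} {b : P ⟶ B} {f : A ⟶ S} {g : B ⟶ S}
    (h : IsPullback a b f g) (x : A) : x ∈ Set.range a ↔ f x ∈ Set.range g := by
  refine ⟨fun ⟨z, hz⟩ => ⟨b z, ?_⟩, fun hx => ?_⟩
  · rw [← hz]
    exact (congrArg (fun m : P ⟶ S => m z) h.w).symm
  · obtain ⟨z, hz⟩ := (Gysin.fst_mem_range_iff f g x).mpr hx
    refine ⟨h.isoPullback.inv z, ?_⟩
    rw [← hz, ← Scheme.Hom.comp_apply, h.isoPullback_inv_fst]

end Groth.Agent.H3Bivar
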