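import Groth.Agent.H3Bivar.Hom
import Groth.Agent.H3Cyc.RelDimBC
import Groth.Agent.S1932
import Groth.Agent.S1933
import Groth.Agent.S1931
import Groth.Agent.H3Cyc.Tower
import Mathlib

/-!
# Functoriality of the Gysin homomorphisms
-/

set_option autoImplicit false
set_option linter.style.haveILetI false
set_option linter.unusedSectionVars false
set_option backward.isDefEq.respectTransparency.types false
universe u

open CategoryTheory CategoryTheory.Limits AlgebraicGeometry IsLocalRing Opposite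
open Groth.Agent.H11Tilde (IsGen)

noncomputable section

namespace Groth.Agent.H3Bivar

open Groth.Agent.H3Cyc

variable {X D : Scheme.{u}} {δ : X → ℤ} {L : X.Modules}

/-- Two sections with the same zero scheme have the same divisors at points of the zero scheme. -/
theorem secDiv_eq_of_sameZero (hL : PicF.IsInvertible L) {i : D ⟶ X} [IsClosedImmersion i]
    {s t : L.presheaf.obj (op ⊤)} (hs : Cyc.IsZeroSchemeOf i L s) (ht : Cyc.IsZeroSchemeOf i L t) {ξ : X}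
    (hξ : ξ ∉ Set.range i) {d : D} (hd : ξ ⤳ i d) :
    Cyc.secDivFun δ L ξ (Submodule.Quotient.mk (L.presheaf.germ ⊤ ξ trivial s)) (i d) =
      Cyc.secDivFun δ L ξ (Submodule.Quotient.mk (L.presheaf.germ ⊤ ξ trivial t)) (i d) := by
  obtain ⟨V, e, hx, he⟩ := H11Ample.exists_gen hL (i d)
  have hξV : ξ ∈ V := hd.mem_open V.2 hx
  obtain ⟨a, ha⟩ := (he (i d) hx).2 (L.presheaf.germ ⊤ (i d) trivial s)
  obtain ⟨b, hb⟩ := (he (i d) hx).2 (L.presheaf.germ ⊤ (i d) trivial t)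
  let sp := (X.presheaf.stalkSpecializes hd).hom
  have hgen : ∀ (m : L.presheaf.obj (op ⊤)) (c : X.presheaf.stalk (i d)),
      c • L.presheaf.germ V (i d) hx e = L.presheaf.germ ⊤ (i d) trivial m →
      (Submodule.Quotient.mk (L.presheaf.germ ⊤ ξ trivial m) : Cyc.secFibre L ξ) = sp c • C1Api.fib L ξ hξV e := by
    intro m c hc
    rw [C1Api.fib, ← Submodule.Quotient.mk_smul]
    refine congrArg _ ?_
    have h1 := congrArg (L.presheaf.stalkSpecializes hd) hc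
    rw [C1Api.stalkSpecializes_smul, TopCat.Presheaf.germ_stalkSpecializes_apply,
      TopCat.Presheaf.germ_stalkSpecializes_apply] at h1
    exact h1.symm
  rw [hgen s a ha, hgen t b hb]
  have hsne := (Gysin.notMem_range_iff hs ξ).mp hξ
  have htne := (Gysin.notMem_range_iff ht ξ).mp hξ
  rw [hgen s a ha] at hsne
  rw [hgen t b hb] at htne
  have hra := (C1Api.residue_ne_zero_iff he hξV (sp a)).mp hsne
  have hrb := (C1Api.residue_ne_zero_iff he hξV (sp b)).mp htne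
  rw [C1Api.secDivFun_gen he δ hξV _ hra hx, C1Api.secDivFun_gen he δ hξV _ hrb hx]
  have hspan : Ideal.span {a} = Ideal.span {b} :=
    ((Gysin.ker_eq_span_gen hs he d rfl hx a ha.symm).symm.trans (Gysin.ker_eq_span_gen ht he d rfl hx b hb.symm))
  obtain ⟨u, hu⟩ := Ideal.mem_span_singleton'.mp (hspan ▸ Ideal.mem_span_singleton_self a : a ∈ Ideal.span {b})
  obtain ⟨v, hv⟩ := Ideal.mem_span_singleton'.mp (hspan.symm ▸ Ideal.mem_span_singleton_self b : b ∈ Ideal.span {a})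
  have huu : IsUnit u := by
    rcases IsLocalRing.isUnit_or_isUnit_one_sub_self (u * v) with h | h
    · exact isUnit_of_mul_isUnit_left h
    · refine absurd ?_ hra
      have h0 : (1 - u * v) * a = 0 := by rw [sub_mul, one_mul, mul_assoc, hv, hu, sub_self]
      rw [(IsUnit.mul_right_eq_zero h).mp h0, map_zero, map_zero]
  rw [← hu, map_mul, map_mul, C1Api.divFun_mul δ ξ (fun e0 => hra (by rw [← hu, map_mul, map_mul, e0, zero_mul])) hrb]
  have h1 : Cyc.divFun δ ξ (X.residue ξ (sp u)) (i d) = 0 := by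
    simp only [Cyc.divFun]
    split_ifs with h
    · exact C1Api.ordAt_specMap_unit (i d) ξ h.1 huu
    · rfl
  rw [h1, zero_add]

variable (hX : Cyc.IsSetup X δ) (hL : PicF.IsInvertible L) {s : L.presheaf.obj (op ⊤)} {i : D ⟶ X}
  [IsClosedImmersion i] (hD : Cyc.IsZeroSchemeOf i L s) {δD : D → ℤ} (eD : δD = fun d => δ (i d))

/-- The Gysin map only depends on the zero scheme. -/
theorem gy_sec {t : L.presheaf.obj (op ⊤)} (ht : Cyc.IsZeroSchemeOf i L t) {k k₁ : ℤ} (hk : k = k₁ + 1)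
    (x : ChowOps.CH X δ k) : gy hX hL hD eD hk x = gy hX hL ht eD hk x := by
  haveI := hX.1
  obtain ⟨α, hα, rfl⟩ := Chow.exists_cl x
  obtain ⟨γ, hγf, hγ⟩ := exists_gy_cycle (s := s) (i := i) hX hL eD hk α hα (Chow.sec hL) (Chow.sec_ne_zero hL)
  obtain ⟨γ', hγf', hγ'⟩ := exists_gy_cycle (s := t) (i := i) hX hL eD hk α hα (Chow.sec hL) (Chow.sec_ne_zero hL)
  rw [gy_cl hX hL hD eD hk α hα _ (Chow.sec_ne_zero hL) γ hγ hγf,
    gy_cl hX hL ht eD hk α hα _ (Chow.sec_ne_zero hL) γ' hγ' hγf', Chow.cl_eq_iff]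
  subst eD
  refine Gysin.gysin_congr i hL k₁ α (hk ▸ hα) _ _
    (fun ξ => Gysin.gysinChoice_ne_zero L s _ (Chow.sec_ne_zero hL) ξ)
    (fun ξ => Gysin.gysinChoice_ne_zero L t _ (Chow.sec_ne_zero hL) ξ) (fun ξ hξ d hd => ?_) γ γ' hγf hγf'
  rw [Cyc.gysinChoice, if_pos ((Gysin.notMem_range_iff hD ξ).mp hξ), Cyc.gysinChoice,
    if_pos ((Gysin.notMem_range_iff ht ξ).mp hξ)]
  exact secDiv_eq_of_sameZero hL hD ht hξ hd

/-- The Gysin map only depends on the isomorphism class of the module. -/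
theorem gy_module {N : X.Modules} (ψ : L ≅ N) (hN : PicF.IsInvertible N) {t : N.presheaf.obj (op ⊤)}
    (ht : Cyc.IsZeroSchemeOf i N t) {k k₁ : ℤ} (hk : k = k₁ + 1) (x : ChowOps.CH X δ k) :
    gy hX hL hD eD hk x = gy hX hN ht eD hk x := by
  rw [gy_sec hX hN ht eD (GysOps.isZero_map_iso ψ hL hD) hk]
  haveI := hX.1
  obtain ⟨α, hα, rfl⟩ := Chow.exists_cl x
  obtain ⟨γ, hγf, hγ⟩ := exists_gy_cycle (s := s) (i := i) hX hL eD hk α hα (Chow.sec hL) (Chow.sec_ne_zero hL)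
  obtain ⟨γ', hγf', hγ'⟩ := exists_gy_cycle (s := ψ.hom.app ⊤ s) (i := i) hX hN eD hk α hα (Chow.sec hN)
    (Chow.sec_ne_zero hN)
  rw [gy_cl hX hL hD eD hk α hα _ (Chow.sec_ne_zero hL) γ hγ hγf,
    gy_cl hX hN _ eD hk α hα _ (Chow.sec_ne_zero hN) γ' hγ' hγf', Chow.cl_eq_iff]
  subst eD
  exact GysOps.gys_compare hX ψ hL hN rfl i hD k₁ α α (hk ▸ hα) (hk ▸ hα) (RatRel.refl α) _ (Chow.sec_ne_zero hL) _
    (Chow.sec_ne_zero hN) γ γ' hγf hγf'

/-- The Gysin map of an isomorphic zero scheme. -/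
theorem gy_iso {N : X.Modules} (ψ : L ≅ N) (hN : PicF.IsInvertible N) {D' : Scheme.{u}} (e : D' ⟶ D) [IsIso e]
    {j : D' ⟶ X} [IsClosedImmersion j] (he : e ≫ i = j) {t : N.presheaf.obj (op ⊤)}
    (ht : Cyc.IsZeroSchemeOf j N t) {δE : D' → ℤ} (eE : δE = fun d => δ (j d)) (hDs : Cyc.IsSetup D δD)
    (hEs : Cyc.IsSetup D' δE) (hm : FlatRat.MaxDim e δE δD 0) {k k₁ : ℤ} (hk : k = k₁ + 1) (x : ChowOps.CH X δ k) :
    gy hX hN ht eE hk x = Chow.pull e hEs hDs hm (add_zero k₁).symm (gy hX hL hD eD hk x) := by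
  haveI := hX.1
  haveI := hDs.1
  haveI := hEs.1
  subst he
  have hD' : Cyc.IsZeroSchemeOf (e ≫ i) L s := GysOps.isZero_iso_comp e hD
  rw [← gy_module hX hL hD' eE ψ hN ht hk]
  obtain ⟨α, hα, rfl⟩ := Chow.exists_cl x
  obtain ⟨γ, hγf, hγ⟩ := exists_gy_cycle (s := s) (i := i) hX hL eD hk α hα (Chow.sec hL) (Chow.sec_ne_zero hL)
  obtain ⟨γ', hγf', hγ'⟩ := exists_gy_cycle (s := s) (i := e ≫ i) hX hL eE hk α hα (Chow.sec hL) (Chow.sec_ne_zero hL)
  rw [gy_cl hX hL hD eD hk α hα _ (Chow.sec_ne_zero hL) γ hγ hγf,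
    gy_cl hX hL hD' eE hk α hα _ (Chow.sec_ne_zero hL) γ' hγ' hγf']
  refine (Chow.pull_cl e hEs hDs hm _ γ hγ γ' hγ' ?_).symm
  have hδ : δE = fun z => δD (e z) := by
    rw [eE, eD]
    funext z
    exact congrArg δ (Scheme.Hom.comp_apply e i z)
  subst hδ
  funext z
  rw [OpenSupp.pullFun_openImmersion, hγf', hγf]
  exact congrArg _ (Scheme.Hom.comp_apply e i z)

omit [IsClosedImmersion i] in
theorem deltaCompat_square {X' D' : Scheme.{u}} {δ' : X' → ℤ} {δD δE} {i : D ⟶ X} [IsPreimmersion i] {j : D' ⟶ X'}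
    [IsPreimmersion j] {f : X' ⟶ X} {q : D' ⟶ D} (w : j ≫ f = q ≫ i) (hf : Cyc.DeltaCompat f δ' δ)
    (eD : δD = fun d => δ (i d)) (eE : δE = fun d => δ' (j d)) : Cyc.DeltaCompat q δE δD := by
  subst eD
  subst eE
  refine BCPush.deltaCompat_cancel q i (Reduction.deltaCompat_immersion i δ) ?_
  rw [← w]
  exact BCPush.deltaCompat_comp j f (Reduction.deltaCompat_immersion j δ') hf

/-- Gysin maps commute with flat pullback. -/
theorem gy_pull {X' D' : Scheme.{u}} {δ' : X' → ℤ} (hX' : Cyc.IsSetup X' δ') (f : X' ⟶ X) [Flat f]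
    [LocallyOfFiniteType f] {r : ℕ} (hr : Cyc.HasRelDim f r) (hδ : Cyc.DeltaCompat f δ' δ)
    (hm : FlatRat.MaxDim f δ' δ (r : ℤ)) {j : D' ⟶ X'} [IsClosedImmersion j] {q : D' ⟶ D} [Flat q]
    (sq : IsPullback j q f i) {N : X'.Modules} (ψ : (Scheme.Modules.pullback f).obj L ≅ N) (hN : PicF.IsInvertible N)
    {t : N.presheaf.obj (op ⊤)} (ht : Cyc.IsZeroSchemeOf j N t) {δE : D' → ℤ} (eE : δE = fun d => δ' (j d))
    (hDs : Cyc.IsSetup D δD) (hEs : Cyc.IsSetup D' δE) (hq : FlatRat.MaxDim q δE δD (r : ℤ)) {k k₁ m m₁ : ℤ}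
    (hk : k = k₁ + 1) (hm₂ : m = m₁ + 1) (hr₁ : m = k + r) (hr₂ : m₁ = k₁ + r) (x : ChowOps.CH X δ k) :
    gy hX' hN ht eE hm₂ (Chow.pull f hX' hX hm hr₁ x) = Chow.pull q hEs hDs hq hr₂ (gy hX hL hD eD hk x) := by
  haveI := hX.1
  haveI := hX'.1
  haveI := hDs.1
  have hL' := H11Ample.isInvertible_pullback f hL
  have hP := GysinTot.isZeroScheme_pullSec (i := i) hL hD f
  let δP : ↥(pullback f i) → ℤ := fun z => δ' (pullback.fst f i z)
  have hPs : Cyc.IsSetup (pullback f i) δP := GysinTot.isSetupD (i := pullback.fst f i) hX'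
  haveI := hPs.1
  haveI := hEs.1
  have hsd : Cyc.DeltaCompat (pullback.snd f i) δP δD :=
    deltaCompat_square (pullback.condition) hδ eD rfl
  have hsr : Cyc.HasRelDim (pullback.snd f i) r :=
    hasRelDim_of_isPullback (IsPullback.of_hasPullback f i) hr
  have hsm := FlatRat.maxDim_of_hasRelDim (pullback.snd f i) hsr hsd
  have he : sq.isoPullback.hom ≫ pullback.fst f i = j := sq.isoPullback_hom_fst
  have hδE : δE = fun z => δP (sq.isoPullback.hom z) := by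
    rw [eE]
    funext z
    show δ' (j z) = δ' (pullback.fst f i (sq.isoPullback.hom z))
    rw [← Scheme.Hom.comp_apply, he]
  have hem : FlatRat.MaxDim sq.isoPullback.hom δE δP 0 := by
    rw [hδE]; exact OpenSupp.maxDim_immersion _ _
  rw [gy_iso hX' hL' hP rfl ψ hN sq.isoPullback.hom he ht eE hPs hEs hem hm₂]
  have hkey : gy hX' hL' hP (δD := δP) rfl hm₂ (Chow.pull f hX' hX hm hr₁ x) =
      Chow.pull (pullback.snd f i) hPs hDs hsm hr₂ (gy hX hL hD eD hk x) := by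
    obtain ⟨α, hα, rfl⟩ := Chow.exists_cl x
    subst eD
    obtain ⟨γ, hγf, hγ⟩ := exists_gy_cycle (s := s) (i := i) hX hL rfl hk α hα (Chow.sec hL) (Chow.sec_ne_zero hL)
    obtain ⟨α', haf, hα'⟩ := C1Api.exists_pullFun_cycle f hX' hX hm k α hα
    rw [← hr₁] at hα'
    obtain ⟨ζ₁, h₁, hz₁⟩ := exists_gy_cycle (s := GysinTot.pullSec f L s) (i := pullback.fst f i) (δD := δP) hX' hL' rfl hm₂
      α' hα' (Chow.sec hL') (Chow.sec_ne_zero hL')
    obtain ⟨ζ₂, h₂, hz₂⟩ := C1Api.exists_pullFun_cycle (pullback.snd f i) hPs hDs hsm k₁ γ hγ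
    rw [← hr₂] at hz₂
    rw [Chow.pull_cl f hX' hX hm hr₁ α hα α' hα' haf,
      gy_cl hX' hL' hP rfl hm₂ α' hα' _ (Chow.sec_ne_zero hL') ζ₁ hz₁ h₁,
      gy_cl hX hL hD rfl hk α hα _ (Chow.sec_ne_zero hL) γ hγ hγf,
      Chow.pull_cl _ hPs hDs hsm hr₂ γ hγ ζ₂ hz₂ h₂, Chow.cl_eq_iff]
    subst hk
    subst hr₂
    refine Groth.Agent.S1933.result X X' D δ δ' hX hX' f r hr hδ L hL s i hD _ hP k₁ α hα (Chow.sec hL)
      (Chow.sec_ne_zero hL) (Chow.sec hL') (Chow.sec_ne_zero hL') ζ₁ ζ₂ (fun z => by rw [h₁ z, haf]) ?_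
    rw [h₂]
    exact congrArg _ (funext hγf)
  rw [hkey]
  have heq : sq.isoPullback.hom ≫ pullback.snd f i = q := sq.isoPullback_hom_snd
  have hq' : FlatRat.MaxDim (sq.isoPullback.hom ≫ pullback.snd f i) δE δD (0 + (r : ℤ)) := by
    rw [zero_add]
    intro z hz
    rw [heq] at hz ⊢
    exact hq z hz
  rw [Chow.pull_pull sq.isoPullback.hom hEs hPs hem (pullback.snd f i) hDs hsm hq' hr₂ (add_zero m₁).symm
    (by omega : m₁ = k₁ + (0 + (r : ℤ)))]
  generalize gy hX hL hD eD hk x = y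
  have key : ∀ (g : D' ⟶ D) [Flat g] (c : ℤ) (hc : FlatRat.MaxDim g δE δD c), g = q → ∀ (e : c = r) (h' : m₁ = k₁ + c),
      Chow.pull g hEs hDs hc h' y = Chow.pull q hEs hDs hq hr₂ y := by
    rintro g _ c hc rfl rfl h'
    rfl
  exact key _ _ hq' heq (zero_add _) _

/-- Gysin maps commute with proper pushforward. -/
theorem gy_pushforward {X' D' : Scheme.{u}} {δ' : X' → ℤ} (hX' : Cyc.IsSetup X' δ') (f : X' ⟶ X) [IsProper f]
    (hδ : Cyc.DeltaCompat f δ' δ) {j : D' ⟶ X'} [IsClosedImmersion j] {q : D' ⟶ D} [IsProper q]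
    (sq : IsPullback j q f i) {N : X'.Modules} (ψ : (Scheme.Modules.pullback f).obj L ≅ N) (hN : PicF.IsInvertible N)
    {t : N.presheaf.obj (op ⊤)} (ht : Cyc.IsZeroSchemeOf j N t) {δE : D' → ℤ} (eE : δE = fun d => δ' (j d))
    (hDs : Cyc.IsSetup D δD) (hEs : Cyc.IsSetup D' δE) (hq : Cyc.DeltaCompat q δE δD) {k k₁ : ℤ}
    (hk : k = k₁ + 1) (x : ChowOps.CH X' δ' k) :
    gy hX hL hD eD hk (Chow.push f hX' hX hδ k x) = Chow.push q hEs hDs hq k₁ (gy hX' hN ht eE hk x) := by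
  haveI := hX.1
  haveI := hX'.1
  haveI := hDs.1
  have hL' := H11Ample.isInvertible_pullback f hL
  have hP := GysinTot.isZeroScheme_pullSec (i := i) hL hD f
  let δP : ↥(pullback f i) → ℤ := fun z => δ' (pullback.fst f i z)
  have hPs : Cyc.IsSetup (pullback f i) δP := GysinTot.isSetupD (i := pullback.fst f i) hX'
  haveI := hPs.1
  haveI := hEs.1
  have hsd : Cyc.DeltaCompat (pullback.snd f i) δP δD :=
    deltaCompat_square (pullback.condition) hδ eD rfl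
  have he : sq.isoPullback.hom ≫ pullback.fst f i = j := sq.isoPullback_hom_fst
  have hδE : δE = fun z => δP (sq.isoPullback.hom z) := by
    rw [eE]
    funext z
    show δ' (j z) = δ' (pullback.fst f i (sq.isoPullback.hom z))
    rw [← Scheme.Hom.comp_apply, he]
  have hem : FlatRat.MaxDim sq.isoPullback.hom δE δP 0 := by
    rw [hδE]; exact OpenSupp.maxDim_immersion _ _
  rw [gy_iso hX' hL' hP rfl ψ hN sq.isoPullback.hom he ht eE hPs hEs hem hk]
  have hid : FlatRat.MaxDim (𝟙 D) δD δD 0 := fun _ _ => (add_zero _).symm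
  have hsq : IsPullback q sq.isoPullback.hom (𝟙 D) (pullback.snd f i) :=
    IsPullback.of_vert_isIso ⟨by rw [Category.comp_id]; exact sq.isoPullback_hom_snd.symm⟩
  have h2 := Chow.pull_push (pullback.snd f i) (𝟙 D) hsq hPs hDs hDs hEs hsd hq hid hem (add_zero k₁).symm
    (gy hX' hL' hP (δD := δP) rfl hk x)
  rw [← h2]
  obtain ⟨α, hα, rfl⟩ := Chow.exists_cl x
  subst eD
  obtain ⟨γ, hγf, hγ⟩ := exists_gy_cycle (s := s) (i := i) hX hL rfl hk (AlgebraicCycle.map f δ' δ α)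
    (Chow.map_mem f α hα) (Chow.sec hL) (Chow.sec_ne_zero hL)
  obtain ⟨γ', hγf', hγ'⟩ := exists_gy_cycle (s := GysinTot.pullSec f L s) (i := pullback.fst f i) (δD := δP) hX' hL' rfl hk
    α hα (Chow.sec hL') (Chow.sec_ne_zero hL')
  rw [Chow.push_cl, gy_cl hX hL hD rfl hk _ _ _ (Chow.sec_ne_zero hL) γ hγ hγf,
    gy_cl hX' hL' hP rfl hk α hα _ (Chow.sec_ne_zero hL') γ' hγ' hγf', Chow.push_cl,
    Chow.pull_cl (𝟙 D) hDs hDs hid (add_zero k₁).symm _ (Chow.map_mem _ γ' hγ') _ (Chow.map_mem _ γ' hγ')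
      (Tower.pullFun_id _ _).symm, Chow.cl_eq_iff]
  subst hk
  exact Groth.Agent.S1932.result X X' D δ δ' hX hX' f hδ L hL s i hD _ hP k₁ α hα (Chow.sec hL)
    (Chow.sec_ne_zero hL) (Chow.sec hL') (Chow.sec_ne_zero hL') γ hγf γ' hγf'

/-- Gysin maps commute with each other. -/
theorem gy_gy {L' : X.Modules} (hL' : PicF.IsInvertible L') {s' : L'.presheaf.obj (op ⊤)} {D' : Scheme.{u}}
    {i' : D' ⟶ X} [IsClosedImmersion i'] (hD' : Cyc.IsZeroSchemeOf i' L' s') {δD' : D' → ℤ}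
    (eD' : δD' = fun d => δ (i' d)) (hDs : Cyc.IsSetup D δD) (hD's : Cyc.IsSetup D' δD') {E : Scheme.{u}}
    {a : E ⟶ D} [IsClosedImmersion a] {b : E ⟶ D'} [IsClosedImmersion b] (sq : IsPullback a b i i')
    {N : D.Modules} (ψ : (Scheme.Modules.pullback i).obj L' ≅ N) (hN : PicF.IsInvertible N)
    {ta : N.presheaf.obj (op ⊤)} (ha : Cyc.IsZeroSchemeOf a N ta)
    {N' : D'.Modules} (ψ' : (Scheme.Modules.pullback i').obj L ≅ N') (hN' : PicF.IsInvertible N')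
    {tb : N'.presheaf.obj (op ⊤)} (hb : Cyc.IsZeroSchemeOf b N' tb) {δE : E → ℤ}
    (ea : δE = fun e => δD (a e)) (eb : δE = fun e => δD' (b e)) (hEs : Cyc.IsSetup E δE) {k k₁ k₁' k₂ : ℤ}
    (hk : k = k₁ + 1) (hk' : k = k₁' + 1) (h₂ : k₁ = k₂ + 1) (h₂' : k₁' = k₂ + 1) (x : ChowOps.CH X δ k) :
    gy hDs hN ha ea h₂ (gy hX hL hD eD hk x) = gy hD's hN' hb eb h₂' (gy hX hL' hD' eD' hk' x) := by
  haveI := hX.1
  haveI := hDs.1
  haveI := hD's.1
  haveI := hEs.1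
  subst eD
  subst eD'
  have hM := H11Ample.isInvertible_pullback i hL'
  have hM' := H11Ample.isInvertible_pullback i' hL
  have h1 := GysinTot.isZeroScheme_pullSec (i := i') hL' hD' i
  have h0 := GysOps.isZero_iso_comp (pullbackSymmetry i i').hom
    (GysinTot.isZeroScheme_pullSec (i := i) hL hD i')
  rw [pullbackSymmetry_hom_comp_fst] at h0
  let δP : ↥(pullback i i') → ℤ := fun z => δ (i (pullback.fst i i' z))
  have eP : δP = fun z => (fun d => δ (i' d)) (pullback.snd i i' z) := funext fun z =>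
    congrArg δ (congrArg (fun g : pullback i i' ⟶ X => g z) pullback.condition)
  have hPs : Cyc.IsSetup (pullback i i') δP := GysinTot.isSetupD (i := pullback.fst i i') hDs
  haveI := hPs.1
  have hδE : δE = fun z => δP (sq.isoPullback.hom z) := by
    rw [ea]
    funext z
    show δ (i (a z)) = δ (i (pullback.fst i i' (sq.isoPullback.hom z)))
    rw [← Scheme.Hom.comp_apply sq.isoPullback.hom, sq.isoPullback_hom_fst]
  have hem : FlatRat.MaxDim sq.isoPullback.hom δE δP 0 := by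
    rw [hδE]; exact OpenSupp.maxDim_immersion _ _
  rw [gy_iso hDs hM h1 (δD := δP) rfl ψ hN sq.isoPullback.hom sq.isoPullback_hom_fst ha ea hPs hEs hem h₂,
    gy_iso hD's hM' h0 (δD := δP) eP ψ' hN' sq.isoPullback.hom sq.isoPullback_hom_snd hb eb hPs hEs hem h₂']
  refine congrArg _ ?_
  obtain ⟨α, hα, rfl⟩ := Chow.exists_cl x
  obtain ⟨γ, hγf, hγ⟩ := exists_gy_cycle (s := s) (i := i) hX hL rfl hk α hα (Chow.sec hL) (Chow.sec_ne_zero hL)
  obtain ⟨γ', hγf', hγ'⟩ := exists_gy_cycle (s := s') (i := i') hX hL' rfl hk' α hα (Chow.sec hL') (Chow.sec_ne_zero hL')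
  obtain ⟨ζ₁, hz₁f, hz₁⟩ := exists_gy_cycle (s := GysinTot.pullSec i L' s') (i := pullback.fst i i') (δD := δP)
    hDs hM rfl h₂ γ hγ (Chow.sec hM) (Chow.sec_ne_zero hM)
  obtain ⟨ζ₂, hz₂f, hz₂⟩ := exists_gy_cycle (s := GysinTot.pullSec i' L s) (i := pullback.snd i i') (δD := δP)
    hD's hM' eP h₂' γ' hγ' (Chow.sec hM') (Chow.sec_ne_zero hM')
  rw [gy_cl hX hL hD rfl hk α hα _ (Chow.sec_ne_zero hL) γ hγ hγf,
    gy_cl hX hL' hD' rfl hk' α hα _ (Chow.sec_ne_zero hL') γ' hγ' hγf',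
    gy_cl hDs hM h1 rfl h₂ γ hγ _ (Chow.sec_ne_zero hM) ζ₁ hz₁ hz₁f,
    gy_cl hD's hM' h0 eP h₂' γ' hγ' _ (Chow.sec_ne_zero hM') ζ₂ hz₂ hz₂f, Chow.cl_eq_iff]
  obtain rfl : k₂ = k - 2 := by omega
  exact Groth.Agent.S1931.result X D D' δ hX L L' hL hL' s s' i i' hD hD' _ h1 _ h0 k α hα (Chow.sec hL)
    (Chow.sec_ne_zero hL) (Chow.sec hL') (Chow.sec_ne_zero hL') (Chow.sec hM) (Chow.sec_ne_zero hM) (Chow.sec hM')
    (Chow.sec_ne_zero hM') ⇑γ (funext hγf) ⇑γ' (funext hγf') ζ₁ ζ₂ hz₁f hz₂f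

end Groth.Agent.H3Bivar
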