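import Groth.Agent.H3Bivar.RelGysin
import Groth.Agent.H3Bivar.GyOps
import Groth.Agent.H3Bivar.Glue
import Mathlib

/-!
# The deformation identity for Gysin maps, stable under base change
-/

set_option autoImplicit false
set_option linter.style.haveILetI false
set_option linter.unusedSectionVars false
set_option backward.isDefEq.respectTransparency.types false
set_option maxHeartbeats 1000000
universe u

open CategoryTheory CategoryTheory.Limits AlgebraicGeometry Opposite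

noncomputable section

namespace Groth.Agent.H3Bivar.Deform

open Groth.Agent.H3Cyc

/-- Base change of a cartesian square. -/
theorem isPullback_bc {P A B C P' A' B' C' : Scheme.{u}} {a : P ⟶ A} {b : P ⟶ B} {c : A ⟶ C} {d : B ⟶ C}
    (sq : IsPullback a b c d) {a' : P' ⟶ A'} {b' : P' ⟶ B'} {c' : A' ⟶ C'} {d' : B' ⟶ C'} {fP : P' ⟶ P}
    {fA : A' ⟶ A} {fB : B' ⟶ B} {fC : C' ⟶ C} (sb : IsPullback fP b' b fB) (sc : IsPullback fA c' c fC)
    (wa : a' ≫ fA = fP ≫ a) (wd : d' ≫ fC = fB ≫ d) (w : a' ≫ c' = b' ≫ d') : IsPullback a' b' c' d' := by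
  have h := sb.paste_horiz sq
  rw [← wa, ← wd] at h
  exact IsPullback.of_right h w sc

/-- Gysin pullback to a flat divisor of a smooth morphism. -/
theorem gy_pull_smooth {W S D : Scheme.{u}} {δW : W → ℤ} {δ : S → ℤ} {δD : D → ℤ} (hW : Cyc.IsSetup W δW)
    (hS : Cyc.IsSetup S δ) (hDs : Cyc.IsSetup D δD) (p : W ⟶ S) [Smooth p] {r : ℕ} (hr : Cyc.HasRelDim p (r + 1))
    (hδ : Cyc.DeltaCompat p δW δ) {M : W.Modules} (hM : PicF.IsInvertible M) {σ : M.presheaf.obj (op ⊤)}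
    {i : D ⟶ W} [IsClosedImmersion i] (hD : Cyc.IsZeroSchemeOf i M σ) (eD : δD = fun d => δW (i d)) (q : D ⟶ S)
    [Flat q] (hq : i ≫ p = q) (hrq : Cyc.HasRelDim q r) {n n' : ℤ} (hm : FlatRat.MaxDim p δW δ n)
    (hn : n = (r : ℤ) + 1) (hm' : FlatRat.MaxDim q δD δ n') (hn' : n' = (r : ℤ))
    {k m m₁ : ℤ} (h₁ : m = k + n) (h₂ : m = m₁ + 1) (h₃ : m₁ = k + n') (x : ChowOps.CH S δ k) :
    gy hW hM hD eD h₂ (Chow.pull p hW hS hm h₁ x) = Chow.pull q hDs hS hm' h₃ x := by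
  subst hn hn'
  subst hq
  subst eD
  haveI := hW.1
  haveI := hS.1
  haveI := hDs.1
  obtain ⟨α, hα, rfl⟩ := Chow.exists_cl x
  obtain ⟨j, rfl⟩ : ∃ j, k = j + 1 := ⟨k - 1, by ring⟩
  obtain ⟨α', haf, hα'⟩ := C1Api.exists_pullFun_cycle p hW hS hm (j + 1) α hα
  rw [← h₁] at hα'
  obtain ⟨γ, hγf, hγ⟩ := exists_gy_cycle (s := σ) (i := i) (δD := fun d => δW (i d)) hW hM rfl h₂ α' hα'
    (Chow.sec hM) (Chow.sec_ne_zero hM)
  obtain ⟨ζ, hζf, hζ⟩ := C1Api.exists_pullFun_cycle (i ≫ p) hDs hS hm' (j + 1) α hα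
  rw [← h₃] at hζ
  rw [Chow.pull_cl p hW hS hm h₁ α hα α' hα' haf, gy_cl hW hM hD rfl h₂ α' hα' _ (Chow.sec_ne_zero hM) γ hγ hγf,
    Chow.pull_cl (i ≫ p) hDs hS hm' h₃ α hα ζ hζ hζf, Chow.cl_eq_iff]
  obtain rfl : m₁ = j + (r : ℤ) + 1 := by omega
  exact RelGysin.ratEquiv W S D δW δ hW hS p r hr hδ M hM σ i hD hrq j α hα (Chow.sec hM) (Chow.sec_ne_zero hM) γ ζ
    (fun d => by rw [hγf, haf]) hζf

section identity

variable {S D V W X' D' : Scheme.{u}} {δ : S → ℤ} {δD : D → ℤ} {δV : V → ℤ} {δW : W → ℤ} {δX' : X' → ℤ}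
  {δD' : D' → ℤ}
  (hS : Cyc.IsSetup S δ) (hDs : Cyc.IsSetup D δD) (hV : Cyc.IsSetup V δV) (hW : Cyc.IsSetup W δW)
  (hX' : Cyc.IsSetup X' δX') (hD's : Cyc.IsSetup D' δD')
  {π : V ⟶ S} [Smooth π] (hrπ : Cyc.HasRelDim π 1) (hδπ : Cyc.DeltaCompat π δV δ) (hdπ : FlatRat.MaxDim π δV δ 1)
  {h : W ⟶ S} [Smooth h] (hrh : Cyc.HasRelDim h 2) (hδh : Cyc.DeltaCompat h δW δ) (hdh : FlatRat.MaxDim h δW δ 2)
  {L : S.Modules} (hL : PicF.IsInvertible L) {s : L.presheaf.obj (op ⊤)} {i : D ⟶ S} [IsClosedImmersion i]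
  (hD : Cyc.IsZeroSchemeOf i L s) (eD : δD = fun d => δ (i d))
  {M : W.Modules} (hM : PicF.IsInvertible M) {σ : M.presheaf.obj (op ⊤)} {ι : X' ⟶ W} [IsClosedImmersion ι]
  (hι : Cyc.IsZeroSchemeOf ι M σ) (eX' : δX' = fun d => δW (ι d))
  {g : X' ⟶ S} [Flat g] (hg : ι ≫ h = g) (hrg : Cyc.HasRelDim g 1) (hdg : FlatRat.MaxDim g δX' δ 1)
  {N : W.Modules} (hN : PicF.IsInvertible N) {τ : N.presheaf.obj (op ⊤)} {e0 : V ⟶ W} [IsClosedImmersion e0]
  (he0 : Cyc.IsZeroSchemeOf e0 N τ) (eV : δV = fun d => δW (e0 d)) (he0h : e0 ≫ h = π)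
  (ψM : (Scheme.Modules.pullback e0).obj M ≅ (Scheme.Modules.pullback π).obj L)
  {N' : X'.Modules} (hN' : PicF.IsInvertible N') (ψN : (Scheme.Modules.pullback ι).obj N ≅ N')
  {τ' : N'.presheaf.obj (op ⊤)} {a : D' ⟶ X'} [IsClosedImmersion a] (ha : Cyc.IsZeroSchemeOf a N' τ')
  (ea : δD' = fun d => δX' (a d)) {b : D' ⟶ V} [IsClosedImmersion b] {q : D' ⟶ D} [Flat q]
  (sqA : IsPullback a b ι e0) (sqB : IsPullback b q π i) (hdq : FlatRat.MaxDim q δD' δD 1)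

include hV hW hrπ hδπ hdπ hrh hδh hdh hM hι eX' hg hrg hN he0 eV he0h ψM ψN sqA sqB in
/-- The deformation identity. -/
theorem identity {k k₁ m m₁ : ℤ} (h₁ : k = k₁ + 1) (h₂ : m = k + 1) (h₃ : m = m₁ + 1) (h₄ : m₁ = k₁ + 1)
    (x : ChowOps.CH S δ k) :
    gy hX' hN' ha ea h₃ (Chow.pull g hX' hS hdg h₂ x) = Chow.pull q hD's hDs hdq h₄ (gy hS hL hD eD h₁ x) := by
  have hπL := H11Ample.isInvertible_pullback π hL
  have hb := GysOps.isZero_iso_comp sqB.isoPullback.hom (GysinTot.isZeroScheme_pullSec (i := i) hL hD π)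
  rw [sqB.isoPullback_hom_fst] at hb
  have eb : δD' = fun d => δV (b d) := by
    rw [ea, eX', eV]
    funext d
    show δW (ι (a d)) = δW (e0 (b d))
    rw [← Scheme.Hom.comp_apply, ← Scheme.Hom.comp_apply, sqA.w]
  haveI : LocallyOfFiniteType π := inferInstance
  haveI : LocallyOfFiniteType q := MorphismProperty.of_isPullback sqB inferInstance
  have hq0 : Cyc.HasRelDim q 1 := hasRelDim_of_isPullback sqB hrπ
  have hn : FlatRat.MaxDim π δV δ ((1 : ℕ) : ℤ) := by simpa using hdπ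
  have hqn : FlatRat.MaxDim q δD' δD ((1 : ℕ) : ℤ) := by simpa using hdq
  rw [← gy_pull_smooth hW hS hX' h (r := 1) hrh hδh hM hι eX' g hg hrg hdh (by norm_num) hdg (by norm_num)
    (show k + 2 = k + 2 from rfl) (show k + 2 = m + 1 by omega) h₂ x,
    gy_gy hW hM hι eX' hN he0 eV hX' hV sqA ψN hN' ha ψM hπL hb ea eb hD's (show k + 2 = m + 1 by omega)
      (show k + 2 = m + 1 by omega) h₃ h₃ _,
    gy_pull_smooth hW hS hV h (r := 1) hrh hδh hN he0 eV π he0h hrπ hdh (by norm_num) hdπ (by norm_num)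
      rfl (show k + 2 = m + 1 by omega) h₂ x]
  exact gy_pull hS hL hD eD hV π hrπ hδπ hn sqB (Iso.refl _) hπL hb eb hDs hD's hqn h₁ h₃ h₂ h₄ x

end identity

/-- A section which is the zero scheme of a section retracts the flat pullback. -/
theorem pull_injective_of_section {B E : Scheme.{u}} {δB : B → ℤ} {δE : E → ℤ} (hB : Cyc.IsSetup B δB)
    (hE : Cyc.IsSetup E δE) (q : B ⟶ E) [Smooth q] (hr : Cyc.HasRelDim q 1) (hδ : Cyc.DeltaCompat q δB δE)
    {M : B.Modules} (hM : PicF.IsInvertible M) {σ : M.presheaf.obj (op ⊤)} {z : E ⟶ B} [IsClosedImmersion z]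
    (hz : Cyc.IsZeroSchemeOf z M σ) (hzq : z ≫ q = 𝟙 E) (hm : FlatRat.MaxDim q δB δE 1) {k k₁ : ℤ}
    (hk : k₁ = k + 1) : Function.Injective (Chow.pull q hB hE hm hk : ChowOps.CH E δE k →+ ChowOps.CH B δB k₁) := by
  have hid : FlatRat.MaxDim (𝟙 E) δE δE 0 := fun _ _ => (add_zero _).symm
  have eD : δE = fun d => δB (z d) := by
    funext d
    have h1 := BCPush.deltaCompat_comp z q (Reduction.deltaCompat_immersion z δB) hδ
    rw [hzq] at h1
    exact congrFun (OpenSupp.deltaCompat_unique (𝟙 E) (Reduction.deltaCompat_immersion (𝟙 E) δE) h1) d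
  have hid0 : Cyc.HasRelDim (𝟙 E) 0 := H22Alg.FiniteDegree.hasRelDim_zero _
  intro x y hxy
  have h := congrArg (gy hB hM hz eD (show k₁ = k + 1 from hk)) hxy
  rw [gy_pull_smooth hB hE hE q (r := 0) hr hδ hM hz eD (𝟙 E) hzq hid0 hm (by norm_num) hid (by norm_num) hk hk
      (add_zero k).symm x,
    gy_pull_smooth hB hE hE q (r := 0) hr hδ hM hz eD (𝟙 E) hzq hid0 hm (by norm_num) hid (by norm_num) hk hk
      (add_zero k).symm y] at h
  have e : ∀ w : ChowOps.CH E δE k, Chow.pull (𝟙 E) hE hE hid (add_zero k).symm w = w := fun w => by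
    obtain ⟨α, hα, rfl⟩ := Chow.exists_cl w
    exact Chow.pull_cl (𝟙 E) hE hE hid _ α hα α hα (Tower.pullFun_id δE ⇑α).symm
  rwa [e, e] at h

end Groth.Agent.H3Bivar.Deform
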