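import Groth.Agent.H3Bivar.Basic
import Groth.Agent.H3Cyc.GysOps
import Groth.Agent.S6465
import Mathlib

/-!
# The compatibilities of bivariant classes as identities of homomorphisms
-/

set_option autoImplicit false
set_option linter.style.haveILetI false
set_option linter.unusedSectionVars false
set_option backward.isDefEq.respectTransparency.types false
universe u

open CategoryTheory CategoryTheory.Limits AlgebraicGeometry Opposite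

noncomputable section

namespace Groth.Agent.H3Bivar

open Groth.Agent.H3Cyc

section gy

variable {X D : Scheme.{u}} {δ : X → ℤ} (hX : Cyc.IsSetup X δ) {L : X.Modules} (hL : PicF.IsInvertible L)
  {s : L.presheaf.obj (op ⊤)} {i : D ⟶ X} [IsClosedImmersion i] (hD : Cyc.IsZeroSchemeOf i L s)
  {δD : D → ℤ} (e : δD = fun d => δ (i d))

/-- The Gysin map, lowering the degree by one. -/
def gy {k k₁ : ℤ} (hk : k = k₁ + 1) : ChowOps.CH X δ k →+ ChowOps.CH D δD k₁ := by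
  subst e
  exact (GysinTot.gys hX hL hD k₁).comp (Chow.cast hk)

theorem gy_cl {k k₁ : ℤ} (hk : k = k₁ + 1) (α : AlgebraicCycle X ℤ) (hα : α ∈ Cyc.Zk X δ k) (t : (ξ : X) → Cyc.secFibre L ξ)
    (ht : ∀ ξ, t ξ ≠ 0) (γ : AlgebraicCycle D ℤ) (hγ : γ ∈ Cyc.Zk D δD k₁)
    (hfun : ∀ d, γ d = Cyc.c1CapFun δ L ⇑α (Cyc.gysinChoice L s t) (i d)) :
    gy hX hL hD e hk (ChowOps.cl α hα) = ChowOps.cl γ hγ := by
  subst e
  show GysinTot.gys hX hL hD k₁ (Chow.cast _ (ChowOps.cl α hα)) = _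
  rw [Chow.cast_cl]
  exact GysinTot.gys_cl hX hL hD k₁ α _ t ht γ hγ hfun

include hX hL e in
theorem exists_gy_cycle {k k₁ : ℤ} (hk : k = k₁ + 1) (α : AlgebraicCycle X ℤ) (hα : α ∈ Cyc.Zk X δ k)
    (t : (ξ : X) → Cyc.secFibre L ξ) (ht : ∀ ξ, t ξ ≠ 0) :
    ∃ γ : AlgebraicCycle D ℤ, (∀ d, γ d = Cyc.c1CapFun δ L ⇑α (Cyc.gysinChoice L s t) (i d)) ∧
      γ ∈ Cyc.Zk D δD k₁ := by
  subst e
  subst hk
  exact GysinTot.exists_gysin_cycle (s := s) (i := i) hX hL k₁ α hα t ht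

/-- The self intersection formula. -/
theorem gy_push (hDs : Cyc.IsSetup D δD) (hp : Cyc.DeltaCompat i δD δ) {N : D.Modules} (hN : PicF.IsInvertible N)
    (ψ : (Scheme.Modules.pullback i).obj L ≅ N) {k k₁ : ℤ} (hk : k = k₁ + 1) (x : ChowOps.CH D δD k) :
    gy hX hL hD e hk (Chow.push i hDs hX hp k x) = Chow.c1 hDs hN hk x := by
  have hN' := H11Ample.isInvertible_pullback i hL
  rw [← Chow.c1_congr hDs hN' hN ψ]
  obtain ⟨α, hα, rfl⟩ := Chow.exists_cl x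
  subst e
  subst hk
  haveI := hDs.1
  obtain ⟨γ, hγf, hγ⟩ := GysinTot.exists_gysin_cycle (s := s) (i := i) hX hL k₁
    (AlgebraicCycle.map i (fun d => δ (i d)) δ α) (Chow.map_mem i α hα) (Chow.sec hL) (Chow.sec_ne_zero hL)
  obtain ⟨ζ, hζf, hζ⟩ := C1Api.exists_c1Cap_cycle hDs.2.2 hN' k₁ α hα (Chow.sec hN') (Chow.sec_ne_zero hN')
  rw [Chow.push_cl, gy_cl hX hL hD rfl rfl _ _ _ (Chow.sec_ne_zero hL) γ hγ hγf,
    Chow.c1_cl hDs hN' _ α hα _ (Chow.sec_ne_zero hN') ζ hζ hζf, Chow.cl_eq_iff]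
  have h := Groth.Agent.S6465.result X D δ hX L hL s i hD (k₁ + 1) α hα (Chow.sec hL) (Chow.sec_ne_zero hL)
    (Chow.sec hN') (Chow.sec_ne_zero hN') γ ζ hγf hζf
  rwa [add_sub_cancel_right] at h

end gy

section shapes

variable {T T' S S' : Scheme.{u}} {δT : T → ℤ} {δT' : T' → ℤ} {δS : S → ℤ} {δS' : S' → ℤ}
  (hT : Cyc.IsSetup T δT) (hT' : Cyc.IsSetup T' δT') (hS : Cyc.IsSetup S δS) (hS' : Cyc.IsSetup S' δS')

theorem pushOK_iff (h : T ⟶ S) [IsProper h] (h' : T' ⟶ S') [IsProper h'] (hp : Cyc.DeltaCompat h δT δS)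
    (hp' : Cyc.DeltaCompat h' δT' δS') {k l : ℤ} (φ : ChowOps.CH T δT k →+ ChowOps.CH T' δT' l)
    (ψ : ChowOps.CH S δS k →+ ChowOps.CH S' δS' l) :
    Bivar.PushOK δT δT' δS δS' h h' φ ψ ↔
      ∀ x, ψ (Chow.push h hT hS hp k x) = Chow.push h' hT' hS' hp' l (φ x) := by
  refine ⟨fun H x => ?_, fun H α hα => ?_⟩
  · obtain ⟨α, hα, rfl⟩ := Chow.exists_cl x
    obtain ⟨β, hβ, e, e'⟩ := H α hα
    rw [e, Chow.push_cl, Chow.push_cl]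
    exact e'
  · obtain ⟨β, hβ, e⟩ := Chow.exists_cl (φ (ChowOps.cl α hα))
    exact ⟨β, hβ, e.symm, (H _).trans (by rw [← e, Chow.push_cl])⟩

theorem pullOK_iff (h : T ⟶ S) [Flat h] (h' : T' ⟶ S') [Flat h'] {r : ℤ} (hm : FlatRat.MaxDim h δT δS r)
    (hm' : FlatRat.MaxDim h' δT' δS' r) {k l k₁ l₁ : ℤ} (hk : k₁ = k + r) (hl : l₁ = l + r)
    (φ : ChowOps.CH S δS k →+ ChowOps.CH S' δS' l) (ψ : ChowOps.CH T δT k₁ →+ ChowOps.CH T' δT' l₁) :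
    Bivar.PullOK δS δS' δT δT' h h' r φ ψ ↔
      ∀ x, ψ (Chow.pull h hT hS hm hk x) = Chow.pull h' hT' hS' hm' hl (φ x) := by
  haveI := hT.1
  haveI := hS.1
  haveI := hT'.1
  haveI := hS'.1
  refine ⟨fun H x => ?_, fun H α hα => ?_⟩
  · obtain ⟨α, hα, rfl⟩ := Chow.exists_cl x
    obtain ⟨β, hβ, e, e'⟩ := H α hα
    obtain ⟨α₁, ha, hα₁⟩ := C1Api.exists_pullFun_cycle h hT hS hm k α hα
    rw [← hk] at hα₁
    obtain ⟨β₁, hβ₁, hb, e₁⟩ := e' α₁ ha hα₁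
    rw [Chow.pull_cl h hT hS hm hk α hα α₁ hα₁ ha, e₁, e, Chow.pull_cl h' hT' hS' hm' hl β hβ β₁ hβ₁ hb]
  · obtain ⟨β, hβ, e⟩ := Chow.exists_cl (φ (ChowOps.cl α hα))
    refine ⟨β, hβ, e.symm, fun α₁ ha hα₁ => ?_⟩
    obtain ⟨β₁, hb, hβ₁⟩ := C1Api.exists_pullFun_cycle h' hT' hS' hm' l β hβ
    rw [← hl] at hβ₁
    refine ⟨β₁, hβ₁, hb, ?_⟩
    rw [← Chow.pull_cl h hT hS hm hk α hα α₁ hα₁ ha, H, ← e, Chow.pull_cl h' hT' hS' hm' hl β hβ β₁ hβ₁ hb]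

variable {D E : Scheme.{u}} {δD : D → ℤ} {δE : E → ℤ}

theorem gysinOK_iff {i : D ⟶ S} [IsClosedImmersion i] {L : S.Modules} (hL : PicF.IsInvertible L)
    {σ : L.presheaf.obj (op ⊤)} (hD : Cyc.IsZeroSchemeOf i L σ) (eD : δD = fun d => δS (i d))
    {j : E ⟶ S'} [IsClosedImmersion j] {N : S'.Modules} (hN : PicF.IsInvertible N)
    {τ : N.presheaf.obj (op ⊤)} (hE : Cyc.IsZeroSchemeOf j N τ) (eE : δE = fun d => δS' (j d))
    {k l k₁ l₁ : ℤ} (hk : k = k₁ + 1) (hl : l = l₁ + 1) (φ : ChowOps.CH S δS k →+ ChowOps.CH S' δS' l)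
    (ψ : ChowOps.CH D δD k₁ →+ ChowOps.CH E δE l₁) :
    Bivar.GysinOK δS δD δS' δE i L σ j N τ φ ψ ↔ ∀ x, ψ (gy hS hL hD eD hk x) = gy hS' hN hE eE hl (φ x) := by
  refine ⟨fun H x => ?_, fun H α hα => ?_⟩
  · obtain ⟨α, hα, rfl⟩ := Chow.exists_cl x
    obtain ⟨β, hβ, e, e'⟩ := H α hα
    obtain ⟨γ, hγf, hγ⟩ := exists_gy_cycle (s := σ) (i := i) hS hL eD hk α hα (Chow.sec hL) (Chow.sec_ne_zero hL)
    obtain ⟨ζ, hζ, hζf, e₁⟩ := e' _ (Chow.sec_ne_zero hL) γ hγf hγ (Chow.sec hN) (Chow.sec_ne_zero hN)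
    rw [gy_cl hS hL hD eD hk α hα _ (Chow.sec_ne_zero hL) γ hγ hγf, e₁, e,
      gy_cl hS' hN hE eE hl β hβ _ (Chow.sec_ne_zero hN) ζ hζ hζf]
  · obtain ⟨β, hβ, e⟩ := Chow.exists_cl (φ (ChowOps.cl α hα))
    refine ⟨β, hβ, e.symm, fun w hw γ hγf hγ w' hw' => ?_⟩
    obtain ⟨ζ, hζf, hζ⟩ := exists_gy_cycle (s := τ) (i := j) hS' hN eE hl β hβ w' hw'
    refine ⟨ζ, hζ, hζf, ?_⟩
    rw [← gy_cl hS hL hD eD hk α hα w hw γ hγ hγf, H, ← e, gy_cl hS' hN hE eE hl β hβ w' hw' ζ hζ hζf]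

theorem gysinOK₁_iff {i : D ⟶ S} [IsClosedImmersion i] {L : S.Modules} (hL : PicF.IsInvertible L)
    {σ : L.presheaf.obj (op ⊤)} (hD : Cyc.IsZeroSchemeOf i L σ) (eD : δD = fun d => δS (i d))
    {k l k₁ l₁ : ℤ} (hk : k = k₁ + 1) (hl : l = l₁ + 1) (φ : ChowOps.CH S δS k →+ ChowOps.CH S δS l)
    (ψ : ChowOps.CH D δD k₁ →+ ChowOps.CH D δD l₁) :
    Bivar.GysinOK₁ δS δD i L σ φ ψ ↔ ∀ x, ψ (gy hS hL hD eD hk x) = gy hS hL hD eD hl (φ x) := by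
  refine ⟨fun H x => ?_, fun H α hα => ?_⟩
  · obtain ⟨α, hα, rfl⟩ := Chow.exists_cl x
    obtain ⟨β, hβ, e, e'⟩ := H α hα
    obtain ⟨γ, hγf, hγ⟩ := exists_gy_cycle (s := σ) (i := i) hS hL eD hk α hα (Chow.sec hL) (Chow.sec_ne_zero hL)
    obtain ⟨ζ, hζ, hζf, e₁⟩ := e' _ (Chow.sec_ne_zero hL) γ hγf hγ
    rw [gy_cl hS hL hD eD hk α hα _ (Chow.sec_ne_zero hL) γ hγ hγf, e₁, e,
      gy_cl hS hL hD eD hl β hβ _ (Chow.sec_ne_zero hL) ζ hζ hζf]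
  · obtain ⟨β, hβ, e⟩ := Chow.exists_cl (φ (ChowOps.cl α hα))
    refine ⟨β, hβ, e.symm, fun w hw γ hγf hγ => ?_⟩
    obtain ⟨ζ, hζf, hζ⟩ := exists_gy_cycle (s := σ) (i := i) hS hL eD hl β hβ w hw
    refine ⟨ζ, hζ, hζf, ?_⟩
    rw [← gy_cl hS hL hD eD hk α hα w hw γ hγ hγf, H, ← e, gy_cl hS hL hD eD hl β hβ w hw ζ hζ hζf]

end shapes

end Groth.Agent.H3Bivar
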