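import Groth.Agent.H3Cyc.TotLine
import Groth.Agent.H3Cyc.GysOps
import Mathlib

/-!
# An invertible module is the restriction of a module with a section vanishing on the zero section
-/

set_option autoImplicit false
set_option linter.style.haveILetI false
set_option backward.isDefEq.respectTransparency.types false
universe u

open CategoryTheory CategoryTheory.Limits AlgebraicGeometry Opposite

namespace Groth.Agent.H3Bivar

open Groth.Agent.H3Cyc

/-- The line bundle with its zero section. -/
theorem exists_line {Y : Scheme.{u}} {L : Y.Modules} (hL : PicF.IsInvertible L) :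
    ∃ (V : Scheme.{u}) (π : V ⟶ Y) (_ : Flat π) (_ : LocallyOfFiniteType π)
      (t : ((Scheme.Modules.pullback π).obj L).presheaf.obj (op ⊤)) (i : Y ⟶ V) (_ : IsClosedImmersion i),
      i ≫ π = 𝟙 Y ∧ Cyc.IsZeroSchemeOf i ((Scheme.Modules.pullback π).obj L) t ∧ Cyc.HasRelDim π 1 := by
  obtain ⟨V, π, hf, hl, -, t, X₀, z, hz, hiso, hzero, hrel, -⟩ := TotLine.exists_totalSpace hL
  haveI := hz
  haveI := hiso
  exact ⟨V, π, hf, hl, t, inv (z ≫ π) ≫ z, inferInstance, by rw [Category.assoc, IsIso.inv_hom_id],
    GysOps.isZero_iso_comp (inv (z ≫ π)) hzero, hrel⟩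

end Groth.Agent.H3Bivar
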