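import Groth.Agent.H3Bivar.Glue
import Groth.Agent.H3Bivar.GyOps
import Mathlib

/-!
# The part of a square over an open piece of the base
-/

set_option autoImplicit false
set_option linter.style.haveILetI false
set_option linter.unusedSectionVars false
set_option backward.isDefEq.respectTransparency.types false
universe u

open CategoryTheory CategoryTheory.Limits AlgebraicGeometry

noncomputable section

namespace Groth.Agent.H3Bivar

open Groth.Agent.H3Cyc

variable {X Y : Scheme.{u}} {f : X ⟶ Y} {δX : X → ℤ} {δY : Y → ℤ} (s₀ : Bivar.Sq f δX δY) [hop : IsOpenImmersion s₀.g]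
  (s : Bivar.Sq f δX δY)

/-- The inclusion of the piece of the test scheme. -/
abbrev pcFst : pullback s.g s₀.g ⟶ s.Y' := pullback.fst s.g s₀.g

/-- The inclusion of the piece of the fibre product. -/
def pcLift : pullback (pullback.snd s.g s₀.g) s₀.f' ⟶ s.X' :=
  s.isPullback.lift (pullback.fst _ _ ≫ pullback.fst s.g s₀.g) (pullback.snd _ _ ≫ s₀.g') (by
    rw [Category.assoc, pullback.condition, Category.assoc, ← s₀.isPullback.w, ← Category.assoc, ← Category.assoc,
      pullback.condition])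

theorem pcLift_fst : pcLift s₀ s ≫ s.f' = pullback.fst _ _ ≫ pcFst s₀ s := s.isPullback.lift_fst _ _ _

theorem pcLift_snd : pcLift s₀ s ≫ s.g' = pullback.snd _ _ ≫ s₀.g' := s.isPullback.lift_snd _ _ _

theorem pcLift_isPullback :
    IsPullback (pcLift s₀ s) (pullback.fst (pullback.snd s.g s₀.g) s₀.f') s.f' (pcFst s₀ s) := by
  refine (IsPullback.of_bot ?_ (pcLift_fst s₀ s).symm s.isPullback).flip
  rw [pcLift_snd, show pcFst s₀ s ≫ s.g = pullback.snd s.g s₀.g ≫ s₀.g from pullback.condition]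
  exact (IsPullback.of_hasPullback _ _).paste_vert s₀.isPullback

instance : IsOpenImmersion (pcLift s₀ s) :=
  MorphismProperty.of_isPullback (pcLift_isPullback s₀ s).flip (inferInstance : IsOpenImmersion (pcFst s₀ s))

/-- The piece of a square over `s₀`. -/
abbrev piece : Bivar.Sq s₀.f' s₀.δX' s₀.δY' where
  Y' := pullback s.g s₀.g
  X' := pullback (pullback.snd s.g s₀.g) s₀.f'
  g := pullback.snd s.g s₀.g
  f' := pullback.fst _ _
  g' := pullback.snd _ _
  isPullback := IsPullback.of_hasPullback _ _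
  lft := haveI := s.lft; inferInstance
  δY' := fun w => s.δY' (pcFst s₀ s w)
  δX' := fun w => s.δX' (pcLift s₀ s w)
  compatY := by
    refine BCPush.deltaCompat_cancel _ s₀.g s₀.compatY ?_
    rw [← pullback.condition]
    exact BCPush.deltaCompat_comp (pcFst s₀ s) s.g (Reduction.deltaCompat_immersion _ _) s.compatY
  compatX := by
    refine BCPush.deltaCompat_cancel _ s₀.g' s₀.compatX ?_
    rw [← pcLift_snd]
    exact BCPush.deltaCompat_comp _ s.g' (Reduction.deltaCompat_immersion _ _) s.compatX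

section map

variable {s} {t : Bivar.Sq f δX δY} {h : t.Y' ⟶ s.Y'} {h' : t.X' ⟶ s.X'}
  (w₁ : h ≫ s.g = t.g) (w₂ : h' ≫ s.f' = t.f' ≫ h) (w₃ : h' ≫ s.g' = t.g')

include w₁ w₂ w₃ in
/-- A morphism of squares induces one of pieces. -/
theorem exists_pieceMap :
    ∃ (H : (piece s₀ t).Y' ⟶ (piece s₀ s).Y') (H' : (piece s₀ t).X' ⟶ (piece s₀ s).X'),
      H ≫ (piece s₀ s).g = (piece s₀ t).g ∧ H' ≫ (piece s₀ s).f' = (piece s₀ t).f' ≫ H ∧
      H' ≫ (piece s₀ s).g' = (piece s₀ t).g' ∧ IsPullback H (pcFst s₀ t) (pcFst s₀ s) h ∧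
      IsPullback H' (pcLift s₀ t) (pcLift s₀ s) h' := by
  let H : pullback t.g s₀.g ⟶ pullback s.g s₀.g := pullback.lift (pcFst s₀ t ≫ h) (pullback.snd _ _)
    (by rw [Category.assoc, w₁, pullback.condition])
  have hH : H ≫ pullback.snd s.g s₀.g = pullback.snd t.g s₀.g := pullback.lift_snd _ _ _
  have hH1 : H ≫ pcFst s₀ s = pcFst s₀ t ≫ h := pullback.lift_fst _ _ _
  let H' : (piece s₀ t).X' ⟶ (piece s₀ s).X' := pullback.lift (pullback.fst _ _ ≫ H) (pullback.snd _ _)
    (by rw [Category.assoc, hH, pullback.condition])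
  have hH' : H' ≫ (piece s₀ s).f' = (piece s₀ t).f' ≫ H := pullback.lift_fst _ _ _
  have hH'2 : H' ≫ (piece s₀ s).g' = (piece s₀ t).g' := pullback.lift_snd _ _ _
  have sqH : IsPullback H (pcFst s₀ t) (pcFst s₀ s) h := by
    refine IsPullback.of_right ?_ hH1 (IsPullback.of_hasPullback s.g s₀.g).flip
    rw [hH, w₁]
    exact (IsPullback.of_hasPullback t.g s₀.g).flip
  have hc : H' ≫ pcLift s₀ s = pcLift s₀ t ≫ h' := by
    refine s.isPullback.hom_ext ?_ ?_
    · rw [Category.assoc, pcLift_fst, ← Category.assoc, hH', Category.assoc, hH1, Category.assoc, w₂,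
        ← Category.assoc, ← Category.assoc, pcLift_fst]
    · rw [Category.assoc, pcLift_snd, Category.assoc, w₃, pcLift_snd, ← Category.assoc, hH'2]
  refine ⟨H, H', hH, hH', hH'2, sqH, ?_⟩
  refine IsPullback.of_right ?_ hc (pcLift_isPullback s₀ s).flip
  rw [hH', w₂]
  exact (pcLift_isPullback s₀ t).flip.paste_horiz sqH

end map

end Groth.Agent.H3Bivar
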