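import Groth.Agent.H3Cyc.Chow
import Groth.Agent.H3Cyc.Gysin
import Groth.Agent.S1859
import Mathlib

/-!
# Composites of pushforwards on Chow groups
-/

set_option autoImplicit false
set_option linter.style.haveILetI false
set_option backward.isDefEq.respectTransparency.types false
universe u

open CategoryTheory AlgebraicGeometry

namespace Groth.Agent.H3Bivar

open Groth.Agent.H3Cyc

variable {X Y Z : Scheme.{u}} {δX : X → ℤ} {δY : Y → ℤ} {δZ : Z → ℤ}

/-- Pushforward is functorial. -/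
theorem push_push (hX : Cyc.IsSetup X δX) (hY : Cyc.IsSetup Y δY) (hZ : Cyc.IsSetup Z δZ) (f : X ⟶ Y) [IsProper f]
    (g : Y ⟶ Z) [IsProper g] (hf : Cyc.DeltaCompat f δX δY) (hg : Cyc.DeltaCompat g δY δZ) (q : X ⟶ Z) [IsProper q]
    (e : f ≫ g = q) (hq : Cyc.DeltaCompat q δX δZ) (k : ℤ) (x : ChowOps.CH X δX k) :
    Chow.push g hY hZ hg k (Chow.push f hX hY hf k x) = Chow.push q hX hZ hq k x := by
  subst e
  obtain ⟨α, hα, rfl⟩ := Chow.exists_cl x
  rw [Chow.push_cl, Chow.push_cl, Chow.push_cl]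
  exact Chow.cl_congr _ _ (congrArg DFunLike.coe
    (Groth.Agent.S1859.result X Y Z δX δY δZ hX hY hZ f g hf hg k α hα))

/-- Pushforward along the identity. -/
theorem push_id (hX : Cyc.IsSetup X δX) (h : Cyc.DeltaCompat (𝟙 X) δX δX) (k : ℤ) (x : ChowOps.CH X δX k) :
    Chow.push (𝟙 X) hX hX h k x = x := by
  obtain ⟨α, hα, rfl⟩ := Chow.exists_cl x
  rw [Chow.push_cl]
  refine Chow.cl_congr _ _ (funext fun z => ?_)
  exact Gysin.map_immersion_apply (𝟙 X) δX α z

end Groth.Agent.H3Bivar
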