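import Groth.Agent.H3Cyc.RelDiv
import Groth.Agent.H3Cyc.Gysin
import Groth.Agent.H3Cyc.BCPush
import Groth.Agent.H06EGA17.LocalModel
import Mathlib

/-!
# Gysin pullback to a flat divisor in a smooth morphism
-/

set_option autoImplicit false
set_option linter.style.haveILetI false
set_option linter.unusedSectionVars false
set_option backward.isDefEq.respectTransparency.types false
set_option maxHeartbeats 1000000
universe u
open CategoryTheory AlgebraicGeometry
open CategoryTheory.Limits
open Cyc
open Groth.Agent.H3Cyc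

namespace Groth.Agent.H3Bivar.RelGysin

/-- The Gysin image of a flat pullback under a smooth morphism, on a flat divisor. -/
theorem ratEquiv (X Y D : Scheme.{u}) (δX : X → ℤ) (δY : Y → ℤ) (hX : Cyc.IsSetup X δX) (hY : Cyc.IsSetup Y δY) (p : X ⟶ Y) [Smooth p] (r : ℕ) (hr : Cyc.HasRelDim p (r + 1)) (hδ : Cyc.DeltaCompat p δX δY) (L : X.Modules) (hL : PicF.IsInvertible L) (s : L.presheaf.obj (Opposite.op ⊤)) (i : D ⟶ X) [IsClosedImmersion i] (hD : Cyc.IsZeroSchemeOf i L s) [Flat (i ≫ p)] (hrD : Cyc.HasRelDim (i ≫ p) r) (k : ℤ) (α : AlgebraicCycle Y ℤ) (hα : α ∈ Cyc.Zk Y δY (k + 1)) (w : (ξ : X) → Cyc.secFibre L ξ) (hw : ∀ ξ, w ξ ≠ 0) (γ ζ : AlgebraicCycle D ℤ) (hγ : ∀ d, γ d = Cyc.c1CapFun δX L (Cyc.pullFun p δX δY (r + 1) ⇑α) (Cyc.gysinChoice L s w) (i d)) (hζ : ⇑ζ = Cyc.pullFun (i ≫ p) (fun d => δX (i d)) δY r ⇑α) : Cyc.RatEquiv (fun d => δX (i d)) (k + r + 1) γ ζ := by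
  classical
  haveI := hX.1
  haveI := hY.1
  haveI : IsLocallyNoetherian D := LocallyOfFiniteType.isLocallyNoetherian i
  have hc : FlatRat.MaxDim p δX δY ((r : ℤ) + 1) := by
    have := FlatRat.maxDim_of_hasRelDim p hr hδ
    simpa using this
  have hcD : FlatRat.MaxDim (i ≫ p) (fun d => δX (i d)) δY r :=
    FlatRat.maxDim_of_hasRelDim (i ≫ p) hrD (BCPush.deltaCompat_comp i p (Reduction.deltaCompat_immersion i δX) hδ)
  have hleD : ∀ d : D, δX (i d) ≤ δY (p (i d)) + r := fun d =>
    FlatRat.delta_le_of_maxDim (i ≫ p) (Reduction.isSetup_closedImmersion i hX) hcD d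
  have hle : ∀ x : X, δX x ≤ δY (p x) + (r + 1) := fun x => FlatRat.delta_le_of_maxDim p hX hc x
  have key : ∀ d, γ d = ζ d := by
    intro d
    rw [hγ, hζ]
    let x : X := i d
    obtain ⟨y, hy⟩ : ∃ y, p x = y := ⟨_, rfl⟩
    -- the summands
    have hsum : ∀ ξ, Cyc.pullFun p δX δY (r + 1) (⇑α) ξ *
        Cyc.secDivFun δX L ξ (Cyc.gysinChoice L s w ξ) x ≠ 0 →
        ξ ⤳ x ∧ ξ ≠ x ∧ p ξ = p x ∧ δX x = k + r + 1 ∧ δY (p x) = k + 1 := by
      intro ξ hξ
      have h1 := C1Api.secDivFun_ne_zero (right_ne_zero_of_mul hξ)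
      have h2 : δX x + 1 = δX ξ := by
        by_contra hne
        exact right_ne_zero_of_mul hξ (by rw [Cyc.secDivFun, dif_neg fun hh => hne hh.2])
      have h3 := left_ne_zero_of_mul hξ
      simp only [Cyc.pullFun, ne_eq, ite_eq_right_iff, Classical.not_imp] at h3
      have h4 : δY (p ξ) = k + 1 := by
        by_contra hne
        exact left_ne_zero_of_mul h3.2 (hα _ hne)
      have h3' := h3.1
      have h5 : δX x ≤ δY (p x) + r := hleD d
      have hpe : p ξ = p x := by
        by_contra hne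
        have := (hY.2.2 _ _ (h1.map p.continuous) hne).1
        omega
      rw [← hpe] at h5 ⊢
      exact ⟨h1, fun e => by rw [e] at h2; omega, rfl, by omega, h4⟩
    by_cases hA : δX x = k + r + 1 ∧ δY (p x) = k + 1
    swap
    · rw [Cyc.c1CapFun, finsum_eq_zero_of_forall_eq_zero fun ξ => by_contra fun hξ =>
        hA ⟨(hsum ξ hξ).2.2.2.1, (hsum ξ hξ).2.2.2.2⟩]
      simp only [Cyc.pullFun]
      split_ifs with h
      · have hne : ¬ δY (p x) = k + 1 := fun e => hA ⟨by
          have h' : δX x = δY (p x) + r := h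
          omega, e⟩
        rw [show α ((i ≫ p) d) = 0 from hα _ hne, zero_mul]
      · rfl
    obtain ⟨hxd, hyd⟩ := hA
    obtain ⟨V, e, hxV, he⟩ := Groth.Agent.H11Ample.exists_gen hL x
    obtain ⟨a, ha⟩ := (he x hxV).2 ((L.presheaf.germ ⊤ x trivial) s)
    have hker : RingHom.ker (i.stalkMap d).hom = Ideal.span {a} := by
      have h1 := Gysin.ker_eq_span_gen hD he d rfl hxV a ha.symm
      rw [← h1]
      simp
    have hsz : ∀ (z : X) (hz : z ⤳ x), (L.presheaf.germ ⊤ z trivial) s =
        X.presheaf.stalkSpecializes hz a • L.presheaf.germ V z (hz.mem_open V.2 hxV) e := fun z hz => by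
      rw [← TopCat.Presheaf.germ_stalkSpecializes_apply L.presheaf (U := ⊤) trivial hz s, ← ha,
        C1Api.stalkSpecializes_smul, TopCat.Presheaf.germ_stalkSpecializes_apply]
    have hd : ∀ z : X, z ⤳ x → z ≠ x → p z = p x → δX z = δY (p z) + (r + 1) := fun z hz hne hpz => by
      have h1 := (hX.2.2 _ _ hz hne).1
      have h2 := hle z
      rw [hpz] at h2 ⊢
      omega
    have hnot : ∀ z : X, z ⤳ x → z ≠ x → p z = p x → z ∉ Set.range i := by
      rintro z hz hne hpz ⟨d', rfl⟩
      have := hd _ hz hne hpz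
      have := hleD d'
      omega
    have hgen : ∀ z : X, z ⤳ x → z ≠ x → p z = p x → ∀ w : X, w ⤳ z → p w = p x → w = z := fun z hz hne hpz w hw hpw => by
      by_contra hwz
      have h1 := (hX.2.2 _ _ hw hwz).1
      have h2 := hle w
      have h3 := hd z hz hne hpz
      rw [hpz] at h3
      rw [hpw] at h2
      omega
    have hne : ∀ z (hz : z ⤳ x), z ≠ x → p z = p x → Cyc.specMap x z hz a ≠ 0 := fun z hz hzx hpz h0 => by
      refine (Gysin.notMem_range_iff hD z).mp (hnot z hz hzx hpz) ?_
      rw [hsz z hz, Submodule.Quotient.mk_eq_zero]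
      exact Submodule.smul_mem_smul ((IsLocalRing.residue_eq_zero_iff _).mp h0) trivial
    obtain ⟨W, hW, hxW, -⟩ := exists_isAffineOpen_mem_and_subset (show x ∈ (⊤ : X.Opens) from trivial)
    have hfin : {z : X | z ⤳ x ∧ z ≠ x ∧ p z = p x}.Finite :=
      (FlatRat.finite_comp_inter p hX hY hc (p x) hW).subset fun z hz =>
        ⟨⟨hz.2.2, by rw [hd z hz.1 hz.2.1 hz.2.2, hz.2.2]⟩, hz.1.mem_open W.2 hxW⟩
    let T := hfin.toFinset
    have hT : ∀ z, z ∈ T ↔ z ⤳ x ∧ z ≠ x ∧ p z = p x := fun z => hfin.mem_toFinset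
    let φ := (p.stalkMap x).hom
    letI := φ.toAlgebra
    letI algD : Algebra (Y.presheaf.stalk (p x)) (D.presheaf.stalk d) := ((i.stalkMap d).hom.comp φ).toAlgebra
    have hstalk : ((i ≫ p).stalkMap d).hom = (i.stalkMap d).hom.comp φ := by
      rw [Scheme.Hom.stalkMap_comp]
      rfl
    haveI : Module.Flat (Y.presheaf.stalk (p x)) (D.presheaf.stalk d) := by
      show ((i.stalkMap d).hom.comp φ).Flat
      rw [← hstalk]
      exact Flat.stalkMap (i ≫ p) d
    let πD : X.presheaf.stalk x →ₐ[Y.presheaf.stalk (p x)] D.presheaf.stalk d :=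
      { (i.stalkMap d).hom with commutes' := fun _ => rfl }
    have hπ : Function.Surjective πD := i.stalkMap_surjective d
    have hkD : RingHom.ker πD = Ideal.span {a} := hker
    haveI : Module.Flat (Y.presheaf.stalk (p x)) (X.presheaf.stalk x ⧸ Ideal.span {a}) :=
      Module.Flat.of_linearEquiv ((Ideal.quotientEquivAlgOfEq (Y.presheaf.stalk (p x)) hkD.symm).trans
        (Ideal.quotientKerAlgEquivOfSurjective (f := πD) hπ)).toLinearEquiv
    have hregI : IsSMulRegular (X.presheaf.stalk x ⧸
        (IsLocalRing.maximalIdeal (Y.presheaf.stalk (p x))).map φ) a := by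
      have hx' : x ∈ p.smoothLocus := by rw [p.smoothLocus_eq_top]; trivial
      haveI : IsRegularLocalRing (X.presheaf.stalk x ⧸ (IsLocalRing.maximalIdeal (Y.presheaf.stalk (p x))).map φ) :=
        H06EGA17.isRegularLocalRing_fibre p x hx'
      haveI := H4Depth.isDomain_of_isRegularLocalRing
        (X.presheaf.stalk x ⧸ (IsLocalRing.maximalIdeal (Y.presheaf.stalk (p x))).map φ)
      set I := (IsLocalRing.maximalIdeal (Y.presheaf.stalk (p x))).map φ with hI
      haveI hIp : I.IsPrime := (Ideal.Quotient.isDomain_iff_prime I).mp inferInstance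
      have haI : a ∉ I := by
        intro haI
        have hη : p x ⤳ p x := specializes_rfl
        have hq : IsLocalRing.maximalIdeal (Y.presheaf.stalk (p x)) = RingHom.ker (Cyc.specMap (p x) (p x) hη) := by
          ext c
          rw [GenStalk.mem_ker_iff, TopCat.Presheaf.stalkSpecializes_refl]
          rfl
        let P : PrimeSpectrum (X.presheaf.stalk x) := ⟨I, hIp⟩
        obtain ⟨hz, ez⟩ := GenStalk.ker_specMap_fromSpecStalk x P
        have hle' : (RingHom.ker (Cyc.specMap (p x) (p x) hη)).map φ ≤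
            RingHom.ker (Cyc.specMap x (X.fromSpecStalk x P) hz) := by
          rw [← hq]
          exact le_of_eq ez
        have hpz : p (X.fromSpecStalk x P) = p x :=
          ((hz.map p.continuous).antisymm (FlatRat.prime_quot_ker' p x hη _ hz hle')).eq
        by_cases hzx : X.fromSpecStalk x P = x
        · have hP : I = IsLocalRing.maximalIdeal _ := congrArg PrimeSpectrum.asIdeal
            (show P = IsLocalRing.closedPoint _ from
              (X.fromSpecStalk x).isEmbedding.injective (hzx.trans Scheme.fromSpecStalk_closedPoint.symm))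
          have hmax : ∀ w, p w = p x → w ⤳ x → w = x := fun w hpw hw => by
            have h2 := GenStalk.fromSpecStalk_eq x w hw
            have hle2 : I ≤ RingHom.ker (Cyc.specMap x w hw) := by
              rw [hI, hq]
              exact FlatRat.ker_le_of_eq p x w hw hpw hη
            rw [show (⟨RingHom.ker (Cyc.specMap x w hw), GenStalk.isPrime_ker x w hw⟩ : PrimeSpectrum _) =
              IsLocalRing.closedPoint _ from PrimeSpectrum.ext (le_antisymm
                (IsLocalRing.le_maximalIdeal (GenStalk.isPrime_ker x w hw).ne_top) ((le_of_eq hP.symm).trans hle2)),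
              Scheme.fromSpecStalk_closedPoint] at h2
            exact h2.symm
          have := hc x hmax
          omega
        · exact hne _ hz hzx hpz (RingHom.mem_ker.mp (ez ▸ haI))
      intro u v huv
      obtain ⟨u, rfl⟩ := Ideal.Quotient.mk_surjective u
      obtain ⟨v, rfl⟩ := Ideal.Quotient.mk_surjective v
      have h0 : Ideal.Quotient.mk I a ≠ 0 := fun e => haI (Ideal.Quotient.eq_zero_iff_mem.mp e)
      exact mul_left_cancel₀ h0 huv
    have hlen : Module.length (D.presheaf.stalk d) (D.presheaf.stalk d ⧸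
        Ideal.map ((i ≫ p).stalkMap d).hom (IsLocalRing.maximalIdeal (Y.presheaf.stalk ((i ≫ p) d)))) =
        Module.length (X.presheaf.stalk x) (X.presheaf.stalk x ⧸
          (Ideal.map φ (IsLocalRing.maximalIdeal (Y.presheaf.stalk (p x))) ⊔ Ideal.span {a})) := by
      rw [show Ideal.map ((i ≫ p).stalkMap d).hom (IsLocalRing.maximalIdeal (Y.presheaf.stalk ((i ≫ p) d))) =
        (Ideal.map φ (IsLocalRing.maximalIdeal (Y.presheaf.stalk (p x)))).map (i.stalkMap d).hom from by
          rw [Ideal.map_map, hstalk]; rfl]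
      letI := (i.stalkMap d).hom.toAlgebra
      rw [← Module.length_eq_of_surjective (S := X.presheaf.stalk x) (R := D.presheaf.stalk d) (i.stalkMap_surjective d)]
      let g := (Ideal.Quotient.mkₐ (X.presheaf.stalk x) ((Ideal.map φ (IsLocalRing.maximalIdeal (Y.presheaf.stalk (p x)))).map (i.stalkMap d).hom)).comp
        (Algebra.ofId (X.presheaf.stalk x) (D.presheaf.stalk d))
      have hg : Function.Surjective g := Ideal.Quotient.mk_surjective.comp (i.stalkMap_surjective d)
      have hgk : RingHom.ker g = Ideal.map φ (IsLocalRing.maximalIdeal (Y.presheaf.stalk (p x))) ⊔ Ideal.span {a} := by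
        show (RingHom.ker (Ideal.Quotient.mk ((Ideal.map φ (IsLocalRing.maximalIdeal (Y.presheaf.stalk (p x)))).map (i.stalkMap d).hom))).comap (i.stalkMap d).hom = _
        rw [Ideal.mk_ker, Ideal.comap_map_of_surjective _ (i.stalkMap_surjective d), ← RingHom.ker_eq_comap_bot, hker]
      exact ((Submodule.quotEquivOfEq _ _ hgk.symm).trans
        (Ideal.quotientKerAlgEquivOfSurjective (f := g) hg).toLinearEquiv).length_eq.symm
    simp only [Cyc.pullFun]
    rw [if_pos (show δX (i d) = δY ((i ≫ p) d) + r from by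
      show δX x = δY (p x) + r
      omega), hlen, RelDiv.fibre_identity p x hgen T hT a hregI hne, Finset.mul_sum, Cyc.c1CapFun,
      finsum_eq_sum_of_support_subset _ (s := T) fun ξ hξ => Finset.mem_coe.mpr ((hT ξ).mpr
        ⟨(hsum ξ hξ).1, (hsum ξ hξ).2.1, (hsum ξ hξ).2.2.1⟩),
      ← Finset.sum_attach T (fun ξ => Cyc.pullFun p δX δY (r + 1) (⇑α) ξ *
        Cyc.secDivFun δX L ξ (Cyc.gysinChoice L s w ξ) x)]
    refine Finset.sum_congr rfl fun z _ => ?_
    obtain ⟨hz, hzx, hpz⟩ := (hT z.1).mp z.2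
    have hzd := hd z.1 hz hzx hpz
    have hres : X.residue z.1 (X.presheaf.stalkSpecializes hz a) ≠ 0 := hne z.1 hz hzx hpz
    simp only [Cyc.pullFun]
    rw [if_pos hzd, Cyc.gysinChoice, if_pos ((Gysin.notMem_range_iff hD z.1).mp (hnot z.1 hz hzx hpz)), hsz z.1 hz,
      Submodule.Quotient.mk_smul,
      C1Api.secDivFun_gen he δX (hz.mem_open V.2 hxV) (X.presheaf.stalkSpecializes hz a) hres hxV,
      Cyc.divFun, dif_pos ⟨hz, by rw [hpz] at hzd; omega⟩]
    haveI := GenStalk.isPrime_ker x z.1 hz
    have hdimq : ringKrullDim (Cyc.LocQuot x z.1 hz) ≤ 1 := by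
      refine Order.krullDim_le_one_iff.mpr fun q => ?_
      let J : PrimeSpectrum (X.presheaf.stalk x) := PrimeSpectrum.comap (Ideal.Quotient.mk _) q
      by_cases hm : X.fromSpecStalk x J = x
      · refine Or.inr fun q' _ => ?_
        have hJ : J = IsLocalRing.closedPoint _ :=
          (X.fromSpecStalk x).isEmbedding.injective (hm.trans Scheme.fromSpecStalk_closedPoint.symm)
        refine (Ideal.comap_le_comap_iff_of_surjective (Ideal.Quotient.mk _) Ideal.Quotient.mk_surjective q'.asIdeal q.asIdeal).mp ?_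
        show _ ≤ J.asIdeal
        rw [hJ]
        exact IsLocalRing.le_maximalIdeal (q'.2.comap _).ne_top
      · refine Or.inl fun q' hq' => ?_
        obtain ⟨h1, e1⟩ := GenStalk.ker_specMap_fromSpecStalk x J
        obtain ⟨h1', e1'⟩ := GenStalk.ker_specMap_fromSpecStalk x (PrimeSpectrum.comap (Ideal.Quotient.mk _) q')
        let P : PrimeSpectrum (X.presheaf.stalk x) := ⟨RingHom.ker (Cyc.specMap x z.1 hz), GenStalk.isPrime_ker x z.1 hz⟩
        have hP : ∀ q'' : PrimeSpectrum (Cyc.LocQuot x z.1 hz), z.1 ⤳ X.fromSpecStalk x (PrimeSpectrum.comap (Ideal.Quotient.mk _) q'') := fun q'' => by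
          have h2 := ((PrimeSpectrum.le_iff_specializes P (PrimeSpectrum.comap (Ideal.Quotient.mk _) q'')).mp
            (fun c hc => by
              show Ideal.Quotient.mk _ c ∈ q''.asIdeal
              rw [Ideal.Quotient.eq_zero_iff_mem.mpr hc]; exact zero_mem _)).map (X.fromSpecStalk x).continuous
          rwa [GenStalk.fromSpecStalk_eq] at h2
        have hz2 : ∀ v : X, z.1 ⤳ v → v ⤳ x → v = z.1 ∨ v = x := fun v hv hvx => by
          by_contra hc
          rw [not_or] at hc
          have := (hX.2.2 _ _ hv (Ne.symm hc.1)).1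
          have := (hX.2.2 _ _ hvx hc.2).1
          rw [hpz] at hzd
          omega
        have ez : ∀ q'' : PrimeSpectrum (Cyc.LocQuot x z.1 hz),
            X.fromSpecStalk x (PrimeSpectrum.comap (Ideal.Quotient.mk _) q'') ≠ x →
            X.fromSpecStalk x (PrimeSpectrum.comap (Ideal.Quotient.mk _) q'') = z.1 := fun q'' hn => by
          obtain ⟨h3, -⟩ := GenStalk.ker_specMap_fromSpecStalk x (PrimeSpectrum.comap (Ideal.Quotient.mk _) q'')
          exact (hz2 _ (hP q'') h3).resolve_right hn
        have hq'x : X.fromSpecStalk x (PrimeSpectrum.comap (Ideal.Quotient.mk _) q') ≠ x := fun e2 => hm (by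
          have h4 := ((PrimeSpectrum.le_iff_specializes _ J).mp
            (fun c hc => hq' hc : PrimeSpectrum.comap (Ideal.Quotient.mk _) q' ≤ J)).map (X.fromSpecStalk x).continuous
          rw [e2] at h4
          exact (h1.antisymm h4).eq)
        exact le_of_eq (PrimeSpectrum.comap_injective_of_surjective _ Ideal.Quotient.mk_surjective
          ((X.fromSpecStalk x).isEmbedding.injective ((ez q hm).trans (ez q' hq'x).symm)))
    have h := FlatRat.ordAt_div' x z.1 hz hdimq a 1 (hne z.1 hz hzx hpz) (by rw [map_one]; exact one_ne_zero)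
    rw [map_one, div_one, map_one, Ring.ord_one, ENat.toNat_zero, Nat.cast_zero, sub_zero] at h
    rw [show α ((i ≫ p) d) = α (p z.1) from congrArg (⇑α) hpz.symm, show Cyc.ordAt x z.1 hz (X.residue z.1 (X.presheaf.stalkSpecializes hz a)) = _ from h]
    ring
  refine ⟨PEmpty, fun e => e.elim, fun e => e.elim, fun e => e.elim, fun e => e.elim,
    fun y => ⟨Set.univ, isOpen_univ, trivial, Set.toFinite _⟩, fun y => ?_⟩
  rw [finsum_of_isEmpty]
  show γ y - ζ y = 0
  rw [key, sub_self]

end Groth.Agent.H3Bivar.RelGysin
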