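import Groth.Agent.H3Bivar.Hom
import Groth.Agent.H3Bivar.Line
import Groth.Agent.H3Cyc.SpFun
import Mathlib

/-!
# Squares of bivariant classes
-/

set_option autoImplicit false
set_option linter.style.haveILetI false
set_option linter.unusedSectionVars false
set_option backward.isDefEq.respectTransparency.types false
universe u

open CategoryTheory CategoryTheory.Limits AlgebraicGeometry Opposite

noncomputable section

namespace Groth.Agent.H3Bivar

open Groth.Agent.H3Cyc

variable {X Y : Scheme.{u}} {f : X ⟶ Y} {δX : X → ℤ} {δY : Y → ℤ}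

theorem lft_snd (s : Bivar.Sq f δX δY) : LocallyOfFiniteType s.g' :=
  MorphismProperty.of_isPullback s.isPullback s.lft

theorem isSetup_fst (hY : Cyc.IsSetup Y δY) (s : Bivar.Sq f δX δY) : Cyc.IsSetup s.Y' s.δY' :=
  haveI := s.lft
  isSetup_of_locallyOfFiniteType s.g hY s.compatY

theorem isSetup_snd (hX : Cyc.IsSetup X δX) (s : Bivar.Sq f δX δY) : Cyc.IsSetup s.X' s.δX' :=
  haveI := lft_snd s
  isSetup_of_locallyOfFiniteType s.g' hX s.compatX

section hom

variable {s t : Bivar.Sq f δX δY}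

theorem lft_hom_fst {h : t.Y' ⟶ s.Y'} (w : h ≫ s.g = t.g) : LocallyOfFiniteType h :=
  haveI : LocallyOfFiniteType (h ≫ s.g) := by rw [w]; exact t.lft
  locallyOfFiniteType_of_comp h s.g

theorem lft_hom_snd {h' : t.X' ⟶ s.X'} (w : h' ≫ s.g' = t.g') : LocallyOfFiniteType h' :=
  haveI : LocallyOfFiniteType (h' ≫ s.g') := by rw [w]; exact lft_snd t
  locallyOfFiniteType_of_comp h' s.g'

theorem deltaCompat_fst {h : t.Y' ⟶ s.Y'} (w : h ≫ s.g = t.g) : Cyc.DeltaCompat h t.δY' s.δY' :=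
  BCPush.deltaCompat_cancel h s.g s.compatY (by rw [w]; exact t.compatY)

theorem deltaCompat_snd {h' : t.X' ⟶ s.X'} (w : h' ≫ s.g' = t.g') : Cyc.DeltaCompat h' t.δX' s.δX' :=
  BCPush.deltaCompat_cancel h' s.g' s.compatX (by rw [w]; exact t.compatX)

theorem delta_fst {i : t.Y' ⟶ s.Y'} [IsPreimmersion i] (w : i ≫ s.g = t.g) : t.δY' = fun d => s.δY' (i d) :=
  funext fun d => congrFun (OpenSupp.deltaCompat_unique i (deltaCompat_fst w) (Reduction.deltaCompat_immersion i _)) d

theorem delta_snd {j : t.X' ⟶ s.X'} [IsPreimmersion j] (w : j ≫ s.g' = t.g') : t.δX' = fun d => s.δX' (j d) :=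
  funext fun d => congrFun (OpenSupp.deltaCompat_unique j (deltaCompat_snd w) (Reduction.deltaCompat_immersion j _)) d

/-- Morphisms of squares are cartesian. -/
theorem isPullback_hom {h : t.Y' ⟶ s.Y'} {h' : t.X' ⟶ s.X'} (w₁ : h ≫ s.g = t.g) (w₂ : h' ≫ s.f' = t.f' ≫ h)
    (w₃ : h' ≫ s.g' = t.g') : IsPullback h' t.f' s.f' h :=
  (IsPullback.of_bot (by rw [w₁, w₃]; exact t.isPullback) w₂.symm s.isPullback).flip

end hom

theorem deltaCompat_f' (hδ : Cyc.DeltaCompat f δX δY) (s : Bivar.Sq f δX δY) :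
    Cyc.DeltaCompat s.f' s.δX' s.δY' :=
  BCPush.deltaCompat_cancel s.f' s.g s.compatY
    (by rw [s.isPullback.w]; exact BCPush.deltaCompat_comp s.g' f s.compatX hδ)

/-- The value of a first Chern class on a test scheme. -/
theorem isC1Class_op {L : X.Modules} {c : Bivar.OpCl 1 X δX} (hX : Cyc.IsSetup X δX) (hc : Bivar.IsC1Class L c)
    (s : Bivar.OSq X δX) {j : ℤ} (hj : j = j - 1 + 1) (z : ChowOps.CH s.Y s.δ j) :
    c.op s j z = Chow.c1 (isSetup_test hX s) (H11Ample.isInvertible_pullback s.g hc.1) hj z := by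
  have hLs := H11Ample.isInvertible_pullback s.g hc.1
  have hS := isSetup_test hX s
  haveI := hS.1
  obtain ⟨α, hα, rfl⟩ := Chow.exists_cl z
  obtain ⟨γ, hγf, hγ⟩ := C1Api.exists_c1Cap_cycle hS.2.2 hLs (j - 1) α (by rwa [sub_add_cancel])
    (Chow.sec hLs) (Chow.sec_ne_zero hLs)
  rw [hc.2 s j α hα _ (Chow.sec_ne_zero hLs) γ hγf hγ, Chow.c1_cl hS hLs _ α hα _ (Chow.sec_ne_zero hLs) γ hγ hγf]

/-- Bivariant classes commute with first Chern classes. -/
theorem op_c1 (hX : Cyc.IsSetup X δX) (hY : Cyc.IsSetup Y δY) {p : ℤ} (c : Bivar.Cl p f δX δY)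
    (s : Bivar.Sq f δX δY) {N : s.Y'.Modules} (hN : PicF.IsInvertible N) {k k₁ : ℤ} (hk : k = k₁ + 1)
    (hl : k - p = k₁ - p + 1) (x : ChowOps.CH s.Y' s.δY' k) :
    c.op s k₁ (Chow.c1 (isSetup_fst hY s) hN hk x) =
      Chow.c1 (isSetup_snd hX s) (H11Ample.isInvertible_pullback s.f' hN) hl (c.op s k x) := by
  haveI := (isSetup_fst hY s).1
  obtain ⟨V, π, _, hlft, τ, i, _, hiπ, hτ, -⟩ := exists_line hN
  obtain ⟨δV, hδV⟩ := SpFun.exists_deltaCompat π s.δY'
  obtain ⟨δV', hδV'⟩ := SpFun.exists_deltaCompat (pullback.snd π s.f') s.δX'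
  let tt : Bivar.Sq s.f' s.δX' s.δY' := ⟨V, pullback π s.f', π, pullback.fst π s.f', pullback.snd π s.f',
    IsPullback.of_hasPullback π s.f', inferInstance, δV, δV', hδV, hδV'⟩
  let t := s.paste tt
  let i' : s.X' ⟶ pullback π s.f' := pullback.lift (s.f' ≫ i) (𝟙 _)
    (by rw [Category.assoc, hiπ, Category.comp_id, Category.id_comp])
  have hi'φ : i' ≫ pullback.fst π s.f' = s.f' ≫ i := pullback.lift_fst _ _ _
  have hi'π : i' ≫ pullback.snd π s.f' = 𝟙 _ := pullback.lift_snd _ _ _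
  have sq : IsPullback s.f' i' i (pullback.fst π s.f') := by
    refine IsPullback.of_bot ?_ hi'φ.symm (IsPullback.of_hasPullback π s.f')
    rw [hi'π, hiπ]
    exact IsPullback.of_vert_isIso ⟨by simp⟩
  haveI : IsClosedImmersion i' := MorphismProperty.of_isPullback sq inferInstance
  have w₁ : i ≫ t.g = s.g := by
    show i ≫ π ≫ s.g = s.g
    rw [← Category.assoc, hiπ, Category.id_comp]
  have w₂ : i' ≫ t.f' = s.f' ≫ i := hi'φ
  have w₃ : i' ≫ t.g' = s.g' := by
    show i' ≫ pullback.snd π s.f' ≫ s.g' = s.g'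
    rw [← Category.assoc, hi'π, Category.id_comp]
  have hM := H11Ample.isInvertible_pullback π hN
  have hM' := H11Ample.isInvertible_pullback (pullback.fst π s.f') hM
  have hτ₀ := GysinTot.isZeroScheme_pullSec (i := i) hM hτ (pullback.fst π s.f')
  have hτ' : Cyc.IsZeroSchemeOf i' ((Scheme.Modules.pullback (pullback.fst π s.f')).obj ((Scheme.Modules.pullback π).obj N))
      (GysinTot.pullSec (pullback.fst π s.f') _ τ) := by
    have h := GysOps.isZero_iso_comp sq.flip.isoPullback.hom hτ₀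
    rwa [sq.flip.isoPullback_hom_fst] at h
  have hN' := H11Ample.isInvertible_pullback s.f' hN
  let ψ : (Scheme.Modules.pullback i).obj ((Scheme.Modules.pullback π).obj N) ≅ N :=
    (Scheme.Modules.pullbackComp i π).app _ ≪≫ (Scheme.Modules.pullbackCongr hiπ).app _ ≪≫
      (Scheme.Modules.pullbackId _).app _
  let ψ' : (Scheme.Modules.pullback i').obj ((Scheme.Modules.pullback (pullback.fst π s.f')).obj
      ((Scheme.Modules.pullback π).obj N)) ≅ (Scheme.Modules.pullback s.f').obj N :=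
    (Scheme.Modules.pullbackComp i' _).app _ ≪≫ (Scheme.Modules.pullbackCongr hi'φ).app _ ≪≫
      ((Scheme.Modules.pullbackComp s.f' i).app _).symm ≪≫ (Scheme.Modules.pullback s.f').mapIso ψ
  have eD := delta_fst (s := t) (t := s) (i := i) w₁
  have eD' := delta_snd (s := t) (t := s) (j := i') w₃
  have hp := deltaCompat_fst (s := t) (t := s) (h := i) w₁
  have hp' := deltaCompat_snd (s := t) (t := s) (h' := i') w₃
  have A := (pushOK_iff (isSetup_fst hY s) (isSetup_snd hX s) (isSetup_fst hY t) (isSetup_snd hX t) i i' hp hp'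
    _ _).mp (c.push t s i i' w₁ w₂ w₃ k) x
  obtain rfl : k₁ = k - 1 := by omega
  have B := (gysinOK_iff (isSetup_fst hY t) (isSetup_snd hX t) hM hτ eD hM' hτ' eD' hk hl _ _).mp
    (c.gysin t s i i' w₁ w₂ w₃ _ hM τ hτ _ hτ' k) (Chow.push i (isSetup_fst hY s) (isSetup_fst hY t) hp k x)
  rw [gy_push (isSetup_fst hY t) hM hτ eD (isSetup_fst hY s) hp hN ψ, A,
    gy_push (isSetup_snd hX t) hM' hτ' eD' (isSetup_snd hX s) hp' hN' ψ'] at B
  exact B

end Groth.Agent.H3Bivar
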